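import Groth.Agent.Rlim44.KInjSections
import Groth.Agent.S0488
import Groth.Agent.Mod48.CmpAdj
import Groth.Agent.Mod48.KInjDerived
import Mathlib.Algebra.Homology.DerivedCategory.ExactFunctor

/-!
Hypercohomology on an open subspace.
-/

set_option autoImplicit false
set_option backward.isDefEq.respectTransparency false
set_option backward.isDefEq.respectTransparency.types false

universe u

open CategoryTheory CategoryTheory.Limits TopologicalSpace Opposite DerivedCategory

namespace Groth.Agent.Rlim44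

lemma nonempty_addEquiv_of_surjective {A B B' : Type*} [AddCommGroup A] [AddCommGroup B] [AddCommGroup B']
    (g : A →+ B) (g' : A →+ B') (hg : Function.Surjective g) (hg' : Function.Surjective g')
    (h : ∀ a, g a = 0 ↔ g' a = 0) : Nonempty (B ≃+ B') :=
  ⟨((QuotientAddGroup.quotientKerEquivOfSurjective g hg).symm.trans
    (QuotientAddGroup.quotientAddEquivOfEq (show g.ker = g'.ker from AddSubgroup.ext h))).trans
      (QuotientAddGroup.quotientKerEquivOfSurjective g' hg')⟩

section

variable {C : Type u} [SmallCategory C] {J : GrothendieckTopology C}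
  [HasDerivedCategory.{u} (Sheaf J AddCommGrpCat.{u})] (I : CochainComplex (Sheaf J AddCommGrpCat.{u}) ℤ)

/-- Classes of cocycles as a homomorphism. -/
noncomputable def sclsHom (i : ℤ) (U : C) :
    ((I.d i (i + 1)).hom.app (op U)).hom.ker →+ CohCx.HDU (Q.obj I) i U :=
  AddMonoidHom.ofMapSub (fun s => scls I s.1 s.2) fun s t => scls_sub I s.1 t.1 s.2 t.2

end

theorem nonempty_hdu_restrict {X : TopCat.{u}} (U : Opens X)
    [HasDerivedCategory.{u} (CohTop.Ab X)] [HasDerivedCategory.{u} (CohTop.Ab (TopCat.of U))]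
    [PreservesFiniteLimits (CohTop.restrFunctor U)] [PreservesFiniteColimits (CohTop.restrFunctor U)]
    (K : DerivedCategory (CohTop.Ab X)) (p : ℤ) :
    Nonempty (CohCx.HDU K p U ≃+ CohCx.HDU ((CohTop.restrFunctor U).mapDerivedCategory.obj K) p ⊤) := by
  obtain ⟨I, hI, ⟨e₀⟩⟩ := Mod48.exists_Qh_iso_kInjective (CohTop.Ab X) Mod48.enoughKInj K
  let e : Q.obj I ≅ K := ((DerivedCategory.quotientCompQhIso _).app I).symm ≪≫ e₀
  let I' : CochainComplex (CohTop.Ab (TopCat.of U)) ℤ := ((CohTop.restrFunctor U).mapHomologicalComplex (ComplexShape.up ℤ)).obj I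
  have : I'.IsKInjective := Groth.Agent.S0488.result U I hI
  let e' : Q.obj I' ≅ (CohTop.restrFunctor U).mapDerivedCategory.obj K :=
    ((CohTop.restrFunctor U).mapDerivedCategoryFactors.app I).symm ≪≫ (CohTop.restrFunctor U).mapDerivedCategory.mapIso e
  suffices h : Nonempty (CohCx.HDU (Q.obj I) p U ≃+ CohCx.HDU (Q.obj I') p ⊤) by
    obtain ⟨E⟩ := h
    let c := fun {T : Type (u + 1)} [Category.{u} T] [Preadditive T] {A Z Z' : T} (i : Z ≅ Z') =>
      AddEquiv.mk' i.homToEquiv (fun a b => Preadditive.add_comp A Z Z' a b i.hom)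
    exact ⟨((c ((shiftFunctor _ p).mapIso e)).symm.trans E).trans (c ((shiftFunctor _ p).mapIso e'))⟩
  let W : Opens X := ((Opens.overEquivalence U).inverse.obj ⊤).left
  have hW : W = U := by
    refine Opens.ext ?_
    exact Set.image_univ.trans Subtype.range_coe
  suffices h2 : Nonempty (CohCx.HDU (Q.obj I) p W ≃+ CohCx.HDU (Q.obj I') p ⊤) by
    obtain ⟨E⟩ := h2
    exact ⟨(((CohCx.HDUPresheaf (Q.obj I) p).mapIso (eqToIso hW).op).addCommGroupIsoToAddEquiv).trans E⟩
  refine nonempty_addEquiv_of_surjective (sclsHom I p W) (sclsHom I' p ⊤) ?_ ?_ ?_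
  · intro x
    obtain ⟨s, hs, h⟩ := scls_surjective I x
    exact ⟨⟨s, hs⟩, h⟩
  · intro x
    obtain ⟨s, hs, h⟩ := scls_surjective I' x
    exact ⟨⟨s, hs⟩, h⟩
  · exact fun s => (scls_eq_zero_iff I s.1 s.2).trans (scls_eq_zero_iff I' (U := ⊤) s.1 s.2).symm

end Groth.Agent.Rlim44
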