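import Groth.Agent.SiteCoh.Free
import Groth.Prelude.Def_CohCx
import Mathlib.Algebra.Homology.DerivedCategory.KInjective
import Mathlib.Algebra.Homology.HomotopyCategory.HomComplexSingle
import Mathlib.Algebra.Homology.DerivedCategory.TStructure

/-!
Classes of cocycles of sections of a K-injective complex of abelian sheaves.
-/

set_option autoImplicit false
set_option backward.isDefEq.respectTransparency false
set_option backward.isDefEq.respectTransparency.types false

universe w v u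

open CategoryTheory CategoryTheory.Limits DerivedCategory CochainComplex.HomComplex Opposite

namespace Groth.Agent.Rlim44

section

variable {A : Type u} [Category.{v} A] [Abelian A] [HasDerivedCategory.{w} A]

lemma Qh_map_quotient {S J : CochainComplex A ℤ} (z : S ⟶ J) :
    Qh.map ((HomotopyCategory.quotient A (ComplexShape.up ℤ)).map z) =
      (quotientCompQhIso A).hom.app S ≫ Q.map z ≫ (quotientCompQhIso A).inv.app J := by
  rw [← Category.assoc, ← (quotientCompQhIso A).hom.naturality z, Category.assoc, Iso.hom_inv_id_app,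
    Category.comp_id]
  rfl

lemma Q_map_surjective (S J : CochainComplex A ℤ) [J.IsKInjective] :
    Function.Surjective fun z : S ⟶ J => (Q.map z : Q.obj S ⟶ Q.obj J) := fun φ => by
  obtain ⟨ψ, hψ⟩ := (CochainComplex.IsKInjective.Qh_map_bijective
    ((HomotopyCategory.quotient A (ComplexShape.up ℤ)).obj S) J).2
    ((quotientCompQhIso A).hom.app _ ≫ φ ≫ (quotientCompQhIso A).inv.app _)
  obtain ⟨z, rfl⟩ := (HomotopyCategory.quotient A (ComplexShape.up ℤ)).map_surjective ψ
  rw [Qh_map_quotient] at hψ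
  exact ⟨z, (cancel_mono _).1 ((cancel_epi _).1 hψ)⟩

lemma quotient_map_eq_of_Q_map_eq {S J : CochainComplex A ℤ} [J.IsKInjective] {z z' : S ⟶ J}
    (h : (Q.map z : Q.obj S ⟶ Q.obj J) = Q.map z') :
    (HomotopyCategory.quotient A (ComplexShape.up ℤ)).map z =
      (HomotopyCategory.quotient A (ComplexShape.up ℤ)).map z' :=
  (CochainComplex.IsKInjective.Qh_map_bijective _ J).1 (by rw [Qh_map_quotient, Qh_map_quotient, h])

/-- A quasi-isomorphism out of a K-injective complex has a left inverse up to homotopy. -/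
lemma exists_homotopy_retraction {J T : CochainComplex A ℤ} [J.IsKInjective] (p : J ⟶ T) [QuasiIso p] :
    ∃ r : T ⟶ J, Nonempty (Homotopy (p ≫ r) (𝟙 J)) := by
  obtain ⟨r, hr⟩ := Q_map_surjective T J (inv (Q.map p))
  have hr' : Q.map r = inv (Q.map p) := hr
  refine ⟨r, ⟨HomotopyCategory.homotopyOfEq _ _ (quotient_map_eq_of_Q_map_eq ?_)⟩⟩
  rw [Functor.map_comp, hr', IsIso.hom_inv_id, CategoryTheory.Functor.map_id]

variable {X : A} (I : CochainComplex A ℤ) {i : ℤ}

/-- The class of a cocycle. -/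
noncomputable def kcls (φ : X ⟶ I.X i) (hφ : φ ≫ I.d i (i + 1) = 0) :
    (singleFunctor A 0).obj X ⟶ (Q.obj I)⟦i⟧ :=
  Q.map (Cocycle.equivHomShift.symm (Cocycle.fromSingleMk φ (zero_add i) (i + 1) rfl hφ)) ≫
    (Q.commShiftIso i).hom.app I

lemma kcls_precomp {X' : A} (g : X' ⟶ X) (φ : X ⟶ I.X i) (hφ : φ ≫ I.d i (i + 1) = 0) :
    (singleFunctor A 0).map g ≫ kcls I φ hφ = kcls I (g ≫ φ) (by rw [Category.assoc, hφ, comp_zero]) := by
  rw [kcls, kcls, Cocycle.fromSingleMk_precomp _ _ _ _ _ hφ, Cocycle.equivHomShift_symm_precomp, Functor.map_comp,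
    Category.assoc]
  rfl

lemma kcls_sub (φ ψ : X ⟶ I.X i) (hφ : φ ≫ I.d i (i + 1) = 0) (hψ : ψ ≫ I.d i (i + 1) = 0) :
    kcls I (φ - ψ) (by rw [Preadditive.sub_comp, hφ, hψ, sub_zero]) = kcls I φ hφ - kcls I ψ hψ := by
  rw [kcls, kcls, kcls, Cocycle.fromSingleMk_sub _ _ _ _ _ hφ hψ, map_sub, Functor.map_sub, Preadditive.sub_comp]

variable [I.IsKInjective]

lemma kcls_surjective (x : (singleFunctor A 0).obj X ⟶ (Q.obj I)⟦i⟧) :
    ∃ (φ : X ⟶ I.X i) (hφ : φ ≫ I.d i (i + 1) = 0), kcls I φ hφ = x := by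
  obtain ⟨z, hz⟩ := Q_map_surjective ((CochainComplex.singleFunctor A 0).obj X) (I⟦i⟧)
    (x ≫ (Q.commShiftIso i).inv.app I)
  obtain ⟨φ, hφ, e⟩ := Cocycle.fromSingleMk_surjective (Cocycle.equivHomShift z) i (zero_add i) (i + 1) rfl
  refine ⟨φ, hφ, ?_⟩
  rw [kcls, e]
  refine (congrArg (fun w => Q.map w ≫ (Q.commShiftIso i).hom.app I) (Cocycle.equivHomShift.symm_apply_apply z)).trans ?_
  exact ((congrArg (· ≫ (Q.commShiftIso i).hom.app I) hz).trans (Category.assoc _ _ _)).trans
    ((congrArg (x ≫ ·) (Iso.inv_hom_id_app (Q.commShiftIso i) I)).trans (Category.comp_id _))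

lemma kcls_eq_zero_iff (φ : X ⟶ I.X i) (hφ : φ ≫ I.d i (i + 1) = 0) :
    kcls I φ hφ = 0 ↔ ∃ g : X ⟶ I.X (i - 1), g ≫ I.d (i - 1) i = φ := by
  rw [← Cocycle.fromSingleMk_mem_coboundaries_iff φ (zero_add i) (i + 1) rfl hφ (i - 1) (by omega),
    ← CohomologyClass.toHom_mk_eq_zero_iff, CohomologyClass.toHom_mk, kcls,
    Preadditive.IsIso.comp_right_eq_zero]
  constructor
  · intro h
    rw [← (HomotopyCategory.quotient A (ComplexShape.up ℤ)).map_zero]
    exact quotient_map_eq_of_Q_map_eq (h.trans (Q.map_zero _ _).symm)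
  · intro h
    have h' := congrArg (fun a => Qh.map a) h
    simp only [Functor.map_zero, Qh_map_quotient] at h'
    rwa [Preadditive.IsIso.comp_left_eq_zero, Preadditive.IsIso.comp_right_eq_zero] at h'

end

section Sections

variable {C : Type u} [SmallCategory C] {J : GrothendieckTopology C}
  [HasDerivedCategory.{w} (Sheaf J AddCommGrpCat.{u})] (I : CochainComplex (Sheaf J AddCommGrpCat.{u}) ℤ) {i : ℤ}

/-- The class of a section killed by the differential. -/
noncomputable def scls {U : C} (s : (I.X i).obj.obj (op U)) (hs : (I.d i (i + 1)).hom.app (op U) s = 0) :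
    CohCx.HDU (Q.obj I) i U :=
  kcls I ((SiteCoh.homAddEquivSec U (I.X i)).symm s) ((SiteCoh.homAddEquivSec U _).injective (by
    rw [SiteCoh.homAddEquivSec_comp, AddEquiv.apply_symm_apply, hs, map_zero]))

lemma scls_res {U V : C} (g : V ⟶ U) (s : (I.X i).obj.obj (op U)) (hs : (I.d i (i + 1)).hom.app (op U) s = 0) :
    CohCx.HDUres (Q.obj I) i g (scls I s hs) =
      scls I ((I.X i).obj.map g.op s) (by rw [NatTrans.naturality_apply, hs, map_zero]) := by
  refine (kcls_precomp I (CohCx.freeSheafMap J g) _ _).trans ?_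
  simp only [scls]
  congr 1
  apply (SiteCoh.homAddEquivSec V (I.X i)).injective
  rw [SiteCoh.homAddEquivSec_freeSheafMap_comp, AddEquiv.apply_symm_apply, AddEquiv.apply_symm_apply]

lemma scls_sub {U : C} (s s' : (I.X i).obj.obj (op U)) (hs : (I.d i (i + 1)).hom.app (op U) s = 0)
    (hs' : (I.d i (i + 1)).hom.app (op U) s' = 0) :
    scls I (s - s') (by rw [map_sub, hs, hs', sub_zero]) = scls I s hs - scls I s' hs' := by
  simp only [scls, map_sub]
  exact kcls_sub I _ _ _ _

variable [I.IsKInjective]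

lemma scls_surjective {U : C} (x : CohCx.HDU (Q.obj I) i U) : ∃ s hs, scls I (U := U) s hs = x := by
  obtain ⟨φ, hφ, rfl⟩ := kcls_surjective I x
  refine ⟨SiteCoh.homAddEquivSec U _ φ, ?_, ?_⟩
  · rw [← SiteCoh.homAddEquivSec_comp, hφ, map_zero]
  · simp only [scls, AddEquiv.symm_apply_apply]

lemma scls_eq_zero_iff {U : C} (s : (I.X i).obj.obj (op U)) (hs : (I.d i (i + 1)).hom.app (op U) s = 0) :
    scls I s hs = 0 ↔ ∃ b : (I.X (i - 1)).obj.obj (op U), (I.d (i - 1) i).hom.app (op U) b = s := by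
  rw [scls, kcls_eq_zero_iff]
  constructor
  · rintro ⟨g, hg⟩
    exact ⟨SiteCoh.homAddEquivSec U _ g, by rw [← SiteCoh.homAddEquivSec_comp, hg, AddEquiv.apply_symm_apply]⟩
  · rintro ⟨b, hb⟩
    refine ⟨(SiteCoh.homAddEquivSec U _).symm b, (SiteCoh.homAddEquivSec U _).injective ?_⟩
    rw [SiteCoh.homAddEquivSec_comp, AddEquiv.apply_symm_apply, AddEquiv.apply_symm_apply, hb]

end Sections

end Groth.Agent.Rlim44
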