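import Groth.Agent.Mod48.TruncTower
import Groth.Agent.Mod48.CmpGen
import Mathlib.Algebra.Homology.DerivedCategory.Ext.Basic

/-!
Vanishing of extension groups as vanishing of morphisms in the derived category.
-/

set_option autoImplicit false

universe w u

open CategoryTheory CategoryTheory.Limits CategoryTheory.Abelian DerivedCategory

namespace Groth.Agent.Rlim44

open Groth.Agent.Mod48

variable {A : Type (u + 1)} [Category.{u} A] [Abelian A] [HasExt.{u} A] [HasDerivedCategory.{w} A]

lemma vanishAt_of_subsingleton_ext {X F : A} (k : ℕ) (h : Subsingleton (Ext.{u} X F k)) :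
    LocGen.VanishAt X F (k : ℤ) := by
  intro m q hmq f
  change ((singleFunctor A m).obj X ⟶ (singleFunctor A q).obj F) at f
  have : Subsingleton ((singleFunctor A 0).obj X ⟶ ((singleFunctor A 0).obj F)⟦(k : ℤ)⟧) :=
    (Ext.homEquiv (X := X) (Y := F) (n := k)).symm.subsingleton
  let s := singleFunctors A
  have eX : ((singleFunctor A m).obj X)⟦m⟧ ≅ (singleFunctor A 0).obj X := (s.shiftIso m 0 m (add_zero m)).app X
  have eF : ((singleFunctor A q).obj F)⟦m⟧ ≅ ((singleFunctor A 0).obj F)⟦(k : ℤ)⟧ :=
    (s.shiftIso m (-(k : ℤ)) q (by omega)).app F ≪≫ ((s.shiftIso (k : ℤ) (-(k : ℤ)) 0 (by omega)).app F).symm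
  apply (shiftFunctor _ m).map_injective
  rw [← cancel_mono eF.hom, ← cancel_epi eX.inv]
  exact Subsingleton.elim _ _

end Groth.Agent.Rlim44
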