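import Groth.Agent.Rlim44.NegVanish
import Groth.Agent.RFPlus43.Acyclic

/-!
Hyper direct images as sheafified hypercohomology presheaves.
-/

set_option autoImplicit false
set_option backward.isDefEq.respectTransparency false
set_option backward.isDefEq.respectTransparency.types false

universe u

open CategoryTheory CategoryTheory.Limits TopologicalSpace Opposite DerivedCategory

namespace Groth.Agent.Rlim44

lemma nonempty_homology_iso_sheafify {C : Type u} [SmallCategory C] {J : GrothendieckTopology C}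
    (F : CochainComplex (Sheaf J AddCommGrpCat.{u}) ℤ) (p : ℤ) :
    Nonempty (F.homology p ≅ (presheafToSheaf J AddCommGrpCat.{u}).obj
      ((((sheafToPresheaf J AddCommGrpCat.{u}).mapHomologicalComplex (ComplexShape.up ℤ)).obj F).homology p)) := by
  let η := NatIso.mapHomologicalComplex (asIso (sheafificationAdjunction J AddCommGrpCat.{u}).counit) (ComplexShape.up ℤ) ≪≫
    Functor.mapHomologicalComplexIdIso (Sheaf J AddCommGrpCat.{u}) (ComplexShape.up ℤ)
  exact ⟨(HomologicalComplex.homologyFunctor _ _ p).mapIso (η.app F).symm ≪≫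
    ((((sheafToPresheaf J AddCommGrpCat.{u}).mapHomologicalComplex (ComplexShape.up ℤ)).obj F).sc p).mapHomologyIso
      (presheafToSheaf J AddCommGrpCat.{u})⟩

variable {X Y : TopCat.{u}} (f : X ⟶ Y) [HasDerivedCategory.{u} (CohTop.Ab X)]

theorem nonempty_homology_iso_hdu (I : CochainComplex (CohTop.Ab X) ℤ) [I.IsKInjective] (p : ℤ) :
    Nonempty ((((sheafToPresheaf (Opens.grothendieckTopology Y) AddCommGrpCat.{u}).mapHomologicalComplex
      (ComplexShape.up ℤ)).obj (pushCx f I)).homology p ≅
        (Opens.map f).op ⋙ CohCx.HDUPresheaf (Q.obj I) p) := by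
  let P : CochainComplex ((Opens Y)ᵒᵖ ⥤ AddCommGrpCat.{u}) ℤ :=
    ((sheafToPresheaf (Opens.grothendieckTopology Y) AddCommGrpCat.{u}).mapHomologicalComplex
      (ComplexShape.up ℤ)).obj (pushCx f I)
  let val : ∀ (V : (Opens Y)ᵒᵖ), (P.cycles p).obj V →+ (I.X p).obj.obj (op ((Opens.map f).obj V.unop)) :=
    fun V => ((P.iCycles p).app V).hom
  have hv : ∀ V z, (I.d p (p + 1)).hom.app (op ((Opens.map f).obj V.unop)) (val V z) = 0 := fun V z =>
    ConcreteCategory.congr_hom (NatTrans.congr_app (P.iCycles_d p (p + 1)) V) z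
  let ψ : P.cycles p ⟶ (Opens.map f).op ⋙ CohCx.HDUPresheaf (Q.obj I) p :=
    { app := fun V => AddCommGrpCat.ofHom (AddMonoidHom.ofMapSub
        (fun z => scls I (U := (Opens.map f).obj V.unop) (val V z) (hv V z))
        (fun z z' => by simp only [map_sub]; exact scls_sub I _ _ (hv V z) (hv V z')))
      naturality := fun V W g => by
        ext z
        change scls I (val W ((P.cycles p).map g z)) (hv W _) =
          CohCx.HDUres (Q.obj I) p ((Opens.map f).map g.unop) (scls I (val V z) (hv V z))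
        rw [scls_res]
        congr 1
        exact NatTrans.naturality_apply (P.iCycles p) g z }
  have hψ : ∀ V (z : (P.cycles p).obj V), (ψ.app V).hom z = scls I (U := (Opens.map f).obj V.unop) (val V z) (hv V z) :=
    fun V z => rfl
  have hw : P.toCycles (p - 1) p ≫ ψ = 0 := by
    ext V b
    refine (hψ V _).trans ((scls_eq_zero_iff I _ _).2 ⟨b, ?_⟩)
    exact (ConcreteCategory.congr_hom (NatTrans.congr_app (P.toCycles_i (p - 1) p) V) b).symm
  let hcok := P.homologyIsCokernel (p - 1) p (by simp)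
  let θ : P.homology p ⟶ (Opens.map f).op ⋙ CohCx.HDUPresheaf (Q.obj I) p :=
    hcok.desc (CokernelCofork.ofπ ψ hw)
  have hθ : P.homologyπ p ≫ θ = ψ := hcok.fac (CokernelCofork.ofπ ψ hw) WalkingParallelPair.one
  have : ∀ V, IsIso (θ.app V) := fun V => by
    rw [ConcreteCategory.isIso_iff_bijective]
    have hπ : Function.Surjective ((P.homologyπ p).app V) :=
      (AddCommGrpCat.epi_iff_surjective _).1 inferInstance
    refine ⟨(injective_iff_map_eq_zero (θ.app V).hom).2 fun c hc => ?_, fun x => ?_⟩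
    · obtain ⟨z, rfl⟩ := hπ c
      have hz : (ψ.app V).hom z = 0 := (ConcreteCategory.congr_hom (NatTrans.congr_app hθ V) z).symm.trans hc
      rw [hψ, scls_eq_zero_iff] at hz
      obtain ⟨b, hb⟩ := hz
      have hzb : z = (P.toCycles (p - 1) p).app V b := by
        refine (AddCommGrpCat.mono_iff_injective ((P.iCycles p).app V)).1 inferInstance ?_
        exact hb.symm.trans (ConcreteCategory.congr_hom (NatTrans.congr_app (P.toCycles_i (p - 1) p) V) b).symm
      rw [hzb]
      exact ConcreteCategory.congr_hom (NatTrans.congr_app (P.toCycles_comp_homologyπ (p - 1) p) V) b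
    · obtain ⟨s, hs, rfl⟩ := scls_surjective I (U := (Opens.map f).obj V.unop) x
      obtain ⟨z, hz⟩ := ML41.exists_cycle (((evaluation _ AddCommGrpCat.{u}).obj V).mapHomologicalComplex _ |>.obj P) s hs
      let e := (P.sc p).mapCyclesIso ((evaluation _ AddCommGrpCat.{u}).obj V)
      let z' : (P.cycles p).obj V := e.hom z
      refine ⟨(P.homologyπ p).app V z', (ConcreteCategory.congr_hom (NatTrans.congr_app hθ V) z').trans ?_⟩
      refine (hψ V z').trans ?_
      congr 1
      refine Eq.trans ?_ hz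
      exact ConcreteCategory.congr_hom ((P.sc p).mapCyclesIso_hom_iCycles ((evaluation _ AddCommGrpCat.{u}).obj V)) z
  have := NatIso.isIso_of_isIso_app θ
  exact ⟨asIso θ⟩

theorem nonempty_homology_Rpush_iso [HasDerivedCategory.{u} (CohTop.Ab Y)]
    (K : CochainComplex.Plus (CohTop.Ab X)) (p : ℤ) :
    Nonempty ((DerivedCategory.Plus.homologyFunctor (CohTop.Ab Y) p).obj
        ((CohTop.push f).rightDerivedFunctorPlus.obj
          (DerivedCategory.Plus.Qh.obj ((HomotopyCategory.Plus.quotient (CohTop.Ab X)).obj K))) ≅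
      (presheafToSheaf (Opens.grothendieckTopology Y) AddCommGrpCat.{u}).obj
        ((Opens.map f).op ⋙ CohCx.HDUPresheaf (DerivedCategory.Q.obj K.obj) p)) := by
  obtain ⟨a, ha⟩ := K.property
  obtain ⟨I₀, hI₀, s, hs⟩ := CochainComplex.Plus.exists_quasiIso_injective K a
  let J := (InjectiveObject.ι (CohTop.Ab X)).mapCochainComplexPlus.obj I₀
  have hJi : ∀ n, Injective (J.obj.X n) := fun n => inferInstanceAs (Injective ((InjectiveObject.ι _).obj (I₀.obj.X n)))
  obtain ⟨b, hb⟩ := J.property
  have : J.obj.IsKInjective := CochainComplex.isKInjective_of_injective J.obj b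
  have hq : QuasiIso s.hom := hs
  let G := CohTop.push f
  let Qp := HomotopyCategory.Plus.quotient (CohTop.Ab X)
  have hlim : PreservesLimitsOfSize.{0, 0} G :=
    (TopCat.Sheaf.pullbackPushforwardAdjunction AddCommGrpCat.{u} f).rightAdjoint_preservesLimits
  have : PreservesFiniteLimits G := ⟨fun _ _ _ => inferInstance⟩
  have h1 : IsIso (DerivedCategory.Plus.Qh.map (Qp.map s)) :=
    Localization.inverts DerivedCategory.Plus.Qh (HomotopyCategory.Plus.quasiIso _) _
      ((HomotopyCategory.quotient_map_mem_quasiIso_iff _).2 ((HomologicalComplex.mem_quasiIso_iff _).2 hs))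
  have h2 := (RFPlus43.isIso_unitK_iff G (Qp.obj J)).2
    (RFPlus43.isIso_unit_of_isAc G J fun n => have := hJi n; RFPlus43.isAc_of_injective G _)
  let eA : (DerivedCategory.Plus.homologyFunctor (CohTop.Ab Y) p).obj
      (G.rightDerivedFunctorPlus.obj (DerivedCategory.Plus.Qh.obj (Qp.obj K))) ≅ (pushCx f J.obj).homology p :=
    (DerivedCategory.Plus.homologyFunctor (CohTop.Ab Y) p).mapIso
        (G.rightDerivedFunctorPlus.mapIso (asIso (DerivedCategory.Plus.Qh.map (Qp.map s)))) ≪≫
      (DerivedCategory.homologyFunctor (CohTop.Ab Y) p).mapIso (asIso ((RFPlus43.unitK G).app (Qp.obj J))).symm ≪≫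
      (RFPlus43.GKHomologyIso G p).app J
  obtain ⟨e1⟩ := nonempty_homology_iso_sheafify (pushCx f J.obj) p
  obtain ⟨e2⟩ := nonempty_homology_iso_hdu f J.obj p
  let e3 : (Opens.map f).op ⋙ CohCx.HDUPresheaf (Q.obj J.obj) p ≅
      (Opens.map f).op ⋙ CohCx.HDUPresheaf (Q.obj K.obj) p :=
    Functor.isoWhiskerLeft (Opens.map f).op (Functor.isoWhiskerLeft _ (preadditiveYoneda.mapIso
      ((shiftFunctor _ p).mapIso (asIso (Q.map s.hom)).symm)))
  exact ⟨eA ≪≫ e1 ≪≫ (presheafToSheaf _ _).mapIso (e2 ≪≫ e3)⟩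

end Groth.Agent.Rlim44
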