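import Groth.Agent.Rlim44.KInjSections
import Mathlib.Algebra.Homology.Embedding.CochainComplex
import Mathlib.CategoryTheory.Sites.Sheaf

/-!
Cocycles of sections of a K-injective complex of sheaves exact in negative degrees.
-/

set_option autoImplicit false
set_option linter.unusedSectionVars false
set_option backward.isDefEq.respectTransparency false
set_option backward.isDefEq.respectTransparency.types false

universe u

open CategoryTheory CategoryTheory.Limits Opposite

namespace Groth.Agent.Rlim44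

attribute [local instance] HasDerivedCategory.standard

variable {C : Type u} [SmallCategory C] {J : GrothendieckTopology C}
  (K : CochainComplex (Sheaf J AddCommGrpCat.{u}) ℤ) [K.IsKInjective] [K.IsGE 0]

lemma kinj_compare : ∃ r : K.truncGE 0 ⟶ K, Nonempty (Homotopy (K.πTruncGE 0 ≫ r) (𝟙 K)) :=
  exists_homotopy_retraction (K.πTruncGE 0)

lemma truncGE_subsingleton (U : C) {i : ℤ} (hi : i < 0) :
    Subsingleton (((K.truncGE 0).X i).obj.obj (op U)) :=
  AddCommGrpCat.subsingleton_of_isZero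
    ((sheafToPresheaf J AddCommGrpCat.{u} ⋙ (evaluation _ _).obj (op U)).map_isZero
      (CochainComplex.isZero_of_isStrictlyGE (K.truncGE 0) 0 i hi))

/-- A cocycle of sections differs by a coboundary from its retraction. -/
lemma retraction_cycle (r : K.truncGE 0 ⟶ K) (h : Homotopy (K.πTruncGE 0 ≫ r) (𝟙 K)) {i : ℤ} {U : C}
    (s : (K.X i).obj.obj (op U)) (hs : (K.d i (i + 1)).hom.app (op U) s = 0) :
    ∃ b, (K.d (i - 1) i).hom.app (op U) b =
      (r.f i).hom.app (op U) (((K.πTruncGE 0).f i).hom.app (op U) s) - s := by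
  refine ⟨(h.hom i (i - 1)).hom.app (op U) s, ?_⟩
  have e := h.comm i
  rw [dNext_eq h.hom (show (ComplexShape.up ℤ).Rel i (i + 1) from rfl),
    prevD_eq h.hom (show (ComplexShape.up ℤ).Rel (i - 1) i from by simp)] at e
  have e' : (r.f i).hom.app (op U) (((K.πTruncGE 0).f i).hom.app (op U) s) =
      (h.hom (i + 1) i).hom.app (op U) ((K.d i (i + 1)).hom.app (op U) s) +
        (K.d (i - 1) i).hom.app (op U) ((h.hom i (i - 1)).hom.app (op U) s) + s :=
    congrArg (fun φ : K.X i ⟶ K.X i => φ.hom.app (op U) s) e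
  rw [e', hs, map_zero, zero_add, add_sub_cancel_right]

/-- In negative degrees cocycles of sections are coboundaries. -/
theorem exists_boundary_of_neg {i : ℤ} (hi : i < 0) {U : C} (s : (K.X i).obj.obj (op U))
    (hs : (K.d i (i + 1)).hom.app (op U) s = 0) :
    ∃ b, (K.d (i - 1) i).hom.app (op U) b = s := by
  obtain ⟨r, ⟨h⟩⟩ := kinj_compare K
  obtain ⟨b, hb⟩ := retraction_cycle K r h s hs
  have := truncGE_subsingleton K U hi
  rw [Subsingleton.elim (((K.πTruncGE 0).f i).hom.app (op U) s) 0, map_zero, zero_sub] at hb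
  exact ⟨-b, by rw [map_neg, hb, neg_neg]⟩

lemma πTruncGE_boundary {U : C} (b : (K.X (0 - 1)).obj.obj (op U)) :
    ((K.πTruncGE 0).f 0).hom.app (op U) ((K.d (0 - 1) 0).hom.app (op U) b) = 0 := by
  have := truncGE_subsingleton K U (i := 0 - 1) (by omega)
  have e : ((K.πTruncGE 0).f 0).hom.app (op U) ((K.d (0 - 1) 0).hom.app (op U) b) =
      ((K.truncGE 0).d (0 - 1) 0).hom.app (op U) (((K.πTruncGE 0).f (0 - 1)).hom.app (op U) b) :=
    (congrArg (fun φ : K.X (0 - 1) ⟶ (K.truncGE 0).X 0 => φ.hom.app (op U) b)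
      ((K.πTruncGE 0).comm (0 - 1) 0)).symm
  rw [e, Subsingleton.elim (((K.πTruncGE 0).f (0 - 1)).hom.app (op U) b) 0, map_zero]

lemma truncGE_isSheaf (i : ℤ) : Presieve.IsSheaf J (((K.truncGE 0).X i).obj ⋙ forget AddCommGrpCat.{u}) :=
  (isSheaf_iff_isSheaf_of_type _ _).1 ((sheafCompose J (forget AddCommGrpCat.{u})).obj ((K.truncGE 0).X i)).2

/-- Cocycles of degree zero which are locally coboundaries are coboundaries. -/
theorem exists_boundary_of_locally {U : C} (s : (K.X 0).obj.obj (op U))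
    (hs : (K.d 0 (0 + 1)).hom.app (op U) s = 0) (S : Sieve U) (hS : S ∈ J U)
    (hloc : ∀ ⦃V : C⦄ (g : V ⟶ U), S g → ∃ b, (K.d (0 - 1) 0).hom.app (op V) b = (K.X 0).obj.map g.op s) :
    ∃ b, (K.d (0 - 1) 0).hom.app (op U) b = s := by
  obtain ⟨r, ⟨h⟩⟩ := kinj_compare K
  obtain ⟨b, hb⟩ := retraction_cycle K r h s hs
  have h0 : ((K.πTruncGE 0).f 0).hom.app (op U) s = 0 := (truncGE_isSheaf K 0 S hS).isSeparatedFor.ext fun V g hg => by
    obtain ⟨c, hc⟩ := hloc g hg
    change ((K.truncGE 0).X 0).obj.map g.op _ = ((K.truncGE 0).X 0).obj.map g.op 0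
    rw [map_zero, ← NatTrans.naturality_apply, ← hc, πTruncGE_boundary]
  rw [h0, map_zero, zero_sub s] at hb
  exact ⟨-b, by rw [map_neg, hb, neg_neg]⟩

/-- Cocycles of degree zero which agree up to coboundaries glue up to coboundaries. -/
theorem exists_glue {U : C} (S : Sieve U) (hS : S ∈ J U)
    (s : ∀ ⦃V : C⦄ (g : V ⟶ U), S g → (K.X 0).obj.obj (op V))
    (hs : ∀ ⦃V : C⦄ (g : V ⟶ U) (hg : S g), (K.d 0 (0 + 1)).hom.app (op V) (s g hg) = 0)
    (hcompat : ∀ ⦃V W : C⦄ (g : V ⟶ U) (hg : S g) (k : W ⟶ V),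
      ∃ b, (K.d (0 - 1) 0).hom.app (op W) b = (K.X 0).obj.map k.op (s g hg) - s (k ≫ g) (S.downward_closed hg k)) :
    ∃ t : (K.X 0).obj.obj (op U), (K.d 0 (0 + 1)).hom.app (op U) t = 0 ∧
      ∀ ⦃V : C⦄ (g : V ⟶ U) (hg : S g), ∃ b,
        (K.d (0 - 1) 0).hom.app (op V) b = (K.X 0).obj.map g.op t - s g hg := by
  obtain ⟨r, ⟨h⟩⟩ := kinj_compare K
  let x : Presieve.FamilyOfElements (((K.truncGE 0).X 0).obj ⋙ forget AddCommGrpCat.{u}) S.arrows :=
    fun V g hg => ((K.πTruncGE 0).f 0).hom.app (op V) (s g hg)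
  have hx : x.Compatible := (Presieve.compatible_iff_sieveCompatible x).2 fun V W g k hg => by
    obtain ⟨b, hb⟩ := hcompat g hg k
    change ((K.πTruncGE 0).f 0).hom.app (op W) (s _ _) =
      ((K.truncGE 0).X 0).obj.map k.op (((K.πTruncGE 0).f 0).hom.app (op V) (s g hg))
    rw [← NatTrans.naturality_apply]
    refine (sub_eq_zero.1 ?_).symm
    rw [← map_sub, ← hb, πTruncGE_boundary]
  obtain ⟨y, hy, -⟩ := truncGE_isSheaf K 0 S hS x hx
  let y' : ((K.truncGE 0).X 0).obj.obj (op U) := y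
  have hy0 : ((K.truncGE 0).d 0 (0 + 1)).hom.app (op U) y' = 0 := (truncGE_isSheaf K (0 + 1) S hS).isSeparatedFor.ext fun V g hg => by
    change ((K.truncGE 0).X (0 + 1)).obj.map g.op _ = ((K.truncGE 0).X (0 + 1)).obj.map g.op 0
    have hy' : ((K.truncGE 0).X 0).obj.map g.op y' = ((K.πTruncGE 0).f 0).hom.app (op V) (s g hg) := hy g hg
    rw [map_zero, ← NatTrans.naturality_apply, hy']
    refine (congrArg (fun φ : K.X 0 ⟶ (K.truncGE 0).X (0 + 1) => φ.hom.app (op V) (s g hg))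
      ((K.πTruncGE 0).comm 0 (0 + 1))).trans ?_
    refine Eq.trans ?_ (map_zero (((K.πTruncGE 0).f (0 + 1)).hom.app (op V)).hom)
    exact congrArg _ (hs g hg)
  refine ⟨(r.f 0).hom.app (op U) y', ?_, fun V g hg => ?_⟩
  · refine (congrArg (fun φ : (K.truncGE 0).X 0 ⟶ K.X (0 + 1) => φ.hom.app (op U) y') (r.comm 0 (0 + 1))).trans ?_
    refine Eq.trans ?_ (map_zero ((r.f (0 + 1)).hom.app (op U)).hom)
    exact congrArg _ hy0
  · have hy' : ((K.truncGE 0).X 0).obj.map g.op y' = ((K.πTruncGE 0).f 0).hom.app (op V) (s g hg) := hy g hg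
    rw [← NatTrans.naturality_apply, hy']
    exact retraction_cycle K r h (s g hg) (hs g hg)

end Groth.Agent.Rlim44
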