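import Groth.Agent.Rlim44.RlimSec

/-!
Limits of acyclic systems of abelian sheaves are derived limits.
-/

set_option autoImplicit false
set_option backward.isDefEq.respectTransparency false
set_option backward.isDefEq.respectTransparency.types false
set_option linter.unusedSectionVars false

universe u

open CategoryTheory CategoryTheory.Limits CategoryTheory.Pretriangulated DerivedCategory Opposite CategoryTheory.Abelian
open Groth.Agent.Mod48

namespace Groth.Agent.Rlim44

variable {C : Type u} [SmallCategory C] {J : GrothendieckTopology C}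
  [HasDerivedCategory.{u} (Sheaf J AddCommGrpCat.{u})] {F : ℕ → Sheaf J AddCommGrpCat.{u}}
  {t : ∀ n, F (n + 1) ⟶ F n}

/-- The sheaves as complexes. -/
noncomputable abbrev sK (F : ℕ → Sheaf J AddCommGrpCat.{u}) (n : ℕ) : DerivedCategory (Sheaf J AddCommGrpCat.{u}) :=
  (singleFunctor (Sheaf J AddCommGrpCat.{u}) 0).obj (F n)

/-- The transition maps as maps of complexes. -/
noncomputable abbrev sT (t : ∀ n, F (n + 1) ⟶ F n) (n : ℕ) : sK F (n + 1) ⟶ sK F n :=
  (singleFunctor (Sheaf J AddCommGrpCat.{u}) 0).map (t n)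

lemma isZero_hd_single (M : Sheaf J AddCommGrpCat.{u}) {q : ℤ} (hq : q ≠ 0) :
    IsZero (CohCx.HD ((singleFunctor (Sheaf J AddCommGrpCat.{u}) 0).obj M) q) := by
  rcases lt_or_gt_of_ne hq with h | h
  · exact DerivedCategory.isZero_of_isGE _ 0 q h
  · exact DerivedCategory.isZero_of_isLE _ 0 q h

lemma h1_single {B : Set C} (h1 : ∀ U ∈ B, ∀ (p n : ℕ), Subsingleton (CohSite.HU (F n) (p + 1) U)) :
    ∀ U ∈ B, ∀ (p : ℕ) (q : ℤ) (n : ℕ), Subsingleton (CohSite.HU (CohCx.HD (sK F n) q) (p + 1) U) := by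
  intro U hU p q n
  by_cases hq : q = 0
  · subst hq
    exact subsingleton_HU_of_iso ((singleFunctorCompHomologyFunctorIso _ 0).app (F n)) _ U (h1 U hU p n)
  · refine ⟨fun x y => ?_⟩
    have h0 : ∀ z : Ext.{u} (CohCx.freeSheaf J U) (CohCx.HD (sK F n) q) (p + 1), z = 0 := fun z => by
      rw [← Ext.comp_mk₀_id z, show 𝟙 (CohCx.HD (sK F n) q) = 0 from (IsZero.iff_id_eq_zero _).1 (isZero_hd_single (F n) hq),
        Ext.mk₀_zero, Ext.comp_zero]
    exact (h0 x).trans (h0 y).symm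

lemma h2_single {B : Set C}
    (h2 : ∀ U ∈ B, CohCx.LimOneIsZero (fun n => (F n).obj.obj (op U)) (fun n => ((t n).hom.app (op U)).hom)) :
    ∀ U ∈ B, ∀ (q : ℤ), CohCx.LimOneIsZero (fun n => (CohCx.HD (sK F n) q).obj.obj (op U))
      (fun n => (((homologyFunctor (Sheaf J AddCommGrpCat.{u}) q).map (sT t n)).hom.app (op U)).hom) := by
  intro U hU q
  by_cases hq : q = 0
  · subst hq
    let e : ∀ n, CohCx.HD (sK F n) 0 ≅ F n := fun n => (singleFunctorCompHomologyFunctorIso _ 0).app (F n)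
    refine limOne_congr (fun n => ((e n).hom.hom.app (op U)).hom) (fun n => ?_) (fun n x => ?_) (h2 U hU)
    · exact ConcreteCategory.bijective_of_isIso (((sheafToPresheaf J AddCommGrpCat.{u}).mapIso (e n)).app (op U)).hom
    · exact ConcreteCategory.congr_hom (NatTrans.congr_app (congrArg (fun f => f.hom)
        ((singleFunctorCompHomologyFunctorIso (Sheaf J AddCommGrpCat.{u}) 0).hom.naturality (t n))) (op U)) x
  · intro g
    refine ⟨fun _ => 0, funext fun n => ?_⟩
    have : Subsingleton ((CohCx.HD (sK F n) q).obj.obj (op U)) := AddCommGrpCat.subsingleton_of_isZero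
      ((sheafToPresheaf J AddCommGrpCat.{u} ⋙ (evaluation _ _).obj (op U)).map_isZero (isZero_hd_single (F n) hq))
    exact Subsingleton.elim _ _

/-- The system of zeroth cohomology sheaves is the system itself. -/
noncomputable def hdSeqZeroIso (F : ℕ → Sheaf J AddCommGrpCat.{u}) (t : ∀ n, F (n + 1) ⟶ F n) :
    hdSeq (sK F) (sT t) 0 ≅ CohCx.opSequence F t :=
  NatIso.ofComponents (fun n => (singleFunctorCompHomologyFunctorIso _ 0).app (F n.unop)) (by
    let β : hdSeq (sK F) (sT t) 0 ⟶ CohCx.opSequence F t :=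
      NatTrans.ofOpSequence (fun n => ((singleFunctorCompHomologyFunctorIso _ 0).app (F n)).hom) fun n => by
        rw [Functor.ofOpSequence_map_homOfLE_succ, Functor.ofOpSequence_map_homOfLE_succ]
        exact (singleFunctorCompHomologyFunctorIso (Sheaf J AddCommGrpCat.{u}) 0).hom.naturality (t n)
    exact fun {n m} f => β.naturality f)

variable [HasProduct (sK F)] {B : Set C}

theorem limit_isRlim
    (hB : ∀ U : C, ∃ (ι : Type u) (Y : ι → C) (f : ∀ i, Y i ⟶ U), Sieve.ofArrows Y f ∈ J U ∧ ∀ i, Y i ∈ B)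
    (h1 : ∀ U ∈ B, ∀ (p n : ℕ), Subsingleton (CohSite.HU (F n) (p + 1) U))
    (h2 : ∀ U ∈ B, CohCx.LimOneIsZero (fun n => (F n).obj.obj (op U)) (fun n => ((t n).hom.app (op U)).hom)) :
    DCoh.IsRlim (sK F) (sT t) ((singleFunctor (Sheaf J AddCommGrpCat.{u}) 0).obj (limit (CohCx.opSequence F t))) ∧
    ∀ U ∈ B, ∀ p : ℕ, Subsingleton (CohSite.HU (limit (CohCx.opSequence F t)) (p + 1) U) := by
  have H1 := h1_single h1
  have H2 := h2_single h2
  obtain ⟨L, l, c, hT⟩ := distinguished_cocone_triangle₁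
    (Pi.lift fun n => Pi.π (sK F) n - Pi.π (sK F) (n + 1) ≫ sT t n)
  have hL : DCoh.IsRlim (sK F) (sT t) L := ⟨l, c, hT⟩
  have hz : ∀ q, q ≠ 0 → IsZero (CohCx.HD L q) := fun q hq => by
    obtain ⟨e⟩ := nonempty_hd_iso_limit hB H1 H2 hL q
    refine IsZero.of_iso ((IsZero.iff_id_eq_zero _).2 (limit.hom_ext fun n => ?_)) e
    exact (isZero_hd_single (F n.unop) hq).eq_of_tgt _ _
  have hge : TStructure.t.IsGE L 0 := (DerivedCategory.isGE_iff _ _).2 fun i hi => hz i (by omega)
  have hle : TStructure.t.IsLE L 0 := (DerivedCategory.isLE_iff _ _).2 fun i hi => hz i (by omega)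
  obtain ⟨M, ⟨eL⟩⟩ := exists_iso_singleFunctor_obj_of_isGE_of_isLE L 0
  obtain ⟨e0⟩ := nonempty_hd_iso_limit hB H1 H2 hL 0
  let eM : M ≅ limit (CohCx.opSequence F t) :=
    ((singleFunctorCompHomologyFunctorIso _ 0).app M).symm ≪≫
      (homologyFunctor (Sheaf J AddCommGrpCat.{u}) 0).mapIso eL.symm ≪≫ e0 ≪≫ lim.mapIso (hdSeqZeroIso F t)
  have hR := isRlim_of_iso hL (eL ≪≫ (singleFunctor _ 0).mapIso eM)
  refine ⟨hR, fun U hU p => ?_⟩
  obtain ⟨a, ha⟩ := exists_isRlimVia hR
  have h0 : ∀ y : CohCx.HDU ((singleFunctor (Sheaf J AddCommGrpCat.{u}) 0).obj (limit (CohCx.opSequence F t)))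
      ((p + 1 : ℕ) : ℤ) U, y = 0 := fun y =>
    hdu_eq_zero hB H1 H2 ha hU y fun n => (isZero_hd_single (F n) (by omega)).eq_of_tgt _ _
  exact (Ext.homEquiv (X := CohCx.freeSheaf J U) (Y := limit (CohCx.opSequence F t)) (n := p + 1)).subsingleton_congr.2
    ⟨fun x y => (h0 x).trans (h0 y).symm⟩

end Groth.Agent.Rlim44
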