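import Groth.Agent.ML41.Homology
import Groth.Prelude.Def_CohCx

/-!
Cohomology of a limit of a tower of complexes of abelian groups with vanishing first derived limits.
-/

set_option autoImplicit false
set_option backward.isDefEq.respectTransparency false
set_option backward.isDefEq.respectTransparency.types false

universe u

open CategoryTheory CategoryTheory.Limits Opposite

namespace Groth.Agent.Rlim44

open ML41

variable {A : ℕ → CochainComplex AddCommGrpCat.{u} ℤ} {t : ∀ n, A (n + 1) ⟶ A n}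

lemma transition_fac {T : Type*} [Category T] {B : ℕ → T} {s : ∀ n, B (n + 1) ⟶ B n} {L : T}
    (p : ∀ n, L ⟶ B n) (hp : ∀ n, p (n + 1) ≫ s n = p n) (n : ℕ) :
    ∀ k, p (n + k) ≫ CohCx.transition B s n k = p n
  | 0 => Category.comp_id _
  | k + 1 => by
    change p (n + k + 1) ≫ s (n + k) ≫ CohCx.transition B s n k = p n
    rw [← Category.assoc, hp, transition_fac p hp n k]

lemma opSequence_map_transition {T : Type*} [Category T] (B : ℕ → T) (s : ∀ n, B (n + 1) ⟶ B n) (n : ℕ) :
    ∀ k, (CohCx.opSequence B s).map (homOfLE (Nat.le_add_right n k)).op = CohCx.transition B s n k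
  | 0 => (CohCx.opSequence B s).map_id _
  | k + 1 => by
    rw [← homOfLE_comp (Nat.le_add_right n k) (Nat.le_succ (n + k)), op_comp, Functor.map_comp,
      opSequence_map_transition B s n k]
    exact congrArg (· ≫ _) (Functor.ofOpSequence_map_homOfLE_succ _ _)

section

variable {L : CochainComplex AddCommGrpCat.{u} ℤ} (p : ∀ n, L ⟶ A n) {l k m : ℤ} (n₀ : ℕ)
  (hp : ∀ n, p (n + 1) ≫ t n = p n)
  (hmk : ∀ (j : ℤ) (x : ∀ n, (A n).X j), (∀ n, ((t n).f j).hom (x (n + 1)) = x n) →
    ∃ y, ∀ n, ((p n).f j).hom y = x n)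
  (hext : ∀ (j : ℤ) (y y' : L.X j), (∀ n, ((p n).f j).hom y = ((p n).f j).hom y') → y = y')
  (hc : ∀ j : ℕ, IsIso (HomologicalComplex.homologyMap (CohCx.transition A t n₀ j) m))

include hp hc hmk hext in
lemma limCx_injective (hlk : l + 1 = k) (hkm : k + 1 = m)
    (hl : CohCx.LimOneIsZero (fun n => (A n).X l) (fun n => ((t n).f l).hom))
    (hH : CohCx.LimOneIsZero (fun n => (A n).homology k) (fun n => (HomologicalComplex.homologyMap (t n) k).hom)) :
    Function.Injective (HomologicalComplex.homologyMap (p n₀) m).hom := by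
  subst hkm
  refine (injective_iff_map_eq_zero _).2 fun h hh => ?_
  obtain ⟨Z, hZ, rfl⟩ := cls_surjective L h
  rw [map_cls] at hh
  obtain ⟨b₀, hb₀⟩ := (cls_eq_zero_iff _ rfl _ _).1 hh
  have hup : ∀ j, ∃ b, ((A (n₀ + j)).d k (k + 1)).hom b = ((p (n₀ + j)).f (k + 1)).hom Z := fun j => by
    refine (cls_eq_zero_iff _ rfl _ (by rw [← f_d, hZ, map_zero])).1 ?_
    refine ((ConcreteCategory.bijective_of_isIso (C := AddCommGrpCat)
      (HomologicalComplex.homologyMap (CohCx.transition A t n₀ j) (k + 1))) ).1 ?_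
    refine Eq.trans ?_ (map_zero _).symm
    refine (map_cls _ _ _).trans ((cls_congr _ ?_ _ _).trans hh)
    exact ConcreteCategory.congr_hom (congrArg (fun f => f.f (k + 1)) (transition_fac p hp n₀ j)) Z
  have hall : ∀ n, ∃ b, ((A n).d k (k + 1)).hom b = ((p n).f (k + 1)).hom Z := fun n => by
    rcases le_total n₀ n with h | h
    · obtain ⟨j, rfl⟩ := Nat.exists_eq_add_of_le h
      exact hup j
    · obtain ⟨j, rfl⟩ := Nat.exists_eq_add_of_le h
      refine ⟨((CohCx.transition A t n j).f k).hom b₀, ?_⟩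
      rw [← f_d, hb₀]
      exact ConcreteCategory.congr_hom (congrArg (fun f => f.f (k + 1)) (transition_fac p hp n j)) Z
  choose b hb using hall
  have hpZ : ∀ n, ((t n).f (k + 1)).hom (((p (n + 1)).f (k + 1)).hom Z) = ((p n).f (k + 1)).hom Z := fun n =>
    ConcreteCategory.congr_hom (congrArg (fun f => f.f (k + 1)) (hp n)) Z
  have hcyc : ∀ n, ((A n).d k (k + 1)).hom (b n - ((t n).f k).hom (b (n + 1))) = 0 := fun n => by
    rw [map_sub, hb, ← f_d, hb, hpZ, sub_self]
  obtain ⟨e, he⟩ := hH fun n => cls (A n) _ (hcyc n)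
  choose w hw hwe using fun n => cls_surjective (A n) (e n)
  have htw : ∀ n, ((A n).d k (k + 1)).hom (((t n).f k).hom (w (n + 1))) = 0 := fun n => by
    rw [← f_d, hw, map_zero]
  have hwc : ∀ n, ((A n).d k (k + 1)).hom (w n - ((t n).f k).hom (w (n + 1))) = 0 := fun n => by
    rw [map_sub, hw, htw, sub_zero]
  have hf : ∀ n, ∃ f, ((A n).d l k).hom f =
      b n - ((t n).f k).hom (b (n + 1)) - (w n - ((t n).f k).hom (w (n + 1))) := fun n => by
    refine (cls_eq_zero_iff _ hlk _ (by rw [map_sub, hcyc, hwc, sub_zero])).1 ?_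
    rw [cls_sub _ _ _ (hcyc n) (hwc n), cls_sub _ _ _ (hw n) (htw n), sub_eq_zero, ← map_cls (t n) _ (hw (n + 1)),
      hwe, hwe]
    exact (congrFun he n).symm
  choose f hf using hf
  obtain ⟨g, hg⟩ := hl f
  obtain ⟨y, hy⟩ := hmk k (fun n => b n - w n - ((A n).d l k).hom (g n)) fun n => by
    have h1 : ((A n).d l k).hom (g n) - ((A n).d l k).hom (((t n).f l).hom (g (n + 1))) =
        b n - ((t n).f k).hom (b (n + 1)) - (w n - ((t n).f k).hom (w (n + 1))) := by
      rw [← map_sub, ← hf n]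
      exact congrArg _ (congrFun hg n)
    rw [map_sub, map_sub, f_d]
    rw [← sub_eq_zero]
    rw [← sub_eq_zero] at h1
    rw [← h1]
    abel
  refine (cls_eq_zero_iff _ rfl Z hZ).2 ⟨y, hext _ _ _ fun n => ?_⟩
  rw [f_d, hy, map_sub, map_sub, hb, hw, d_d, sub_zero, sub_zero]

include hp hc hmk hext in
lemma limCx_surjective (hkm : k + 1 = m)
    (hk : CohCx.LimOneIsZero (fun n => (A n).X k) (fun n => ((t n).f k).hom)) :
    Function.Surjective (HomologicalComplex.homologyMap (p n₀) m).hom := by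
  intro x
  let G := CohCx.opSequence A t ⋙ HomologicalComplex.homologyFunctor AddCommGrpCat.{u} (ComplexShape.up ℤ) m
  have hG : ∀ j, G.map (homOfLE (Nat.le_add_right n₀ j)).op =
      HomologicalComplex.homologyMap (CohCx.transition A t n₀ j) m := fun j =>
    congrArg (fun f => HomologicalComplex.homologyMap f m) (opSequence_map_transition A t n₀ j)
  have hGs : ∀ n, G.map (homOfLE (Nat.le_succ n)).op = HomologicalComplex.homologyMap (t n) m := fun n =>
    congrArg (fun f => HomologicalComplex.homologyMap f m) (Functor.ofOpSequence_map_homOfLE_succ _ _)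
  choose η hη using fun j : ℕ => ((ConcreteCategory.bijective_of_isIso (C := AddCommGrpCat)
    (HomologicalComplex.homologyMap (CohCx.transition A t n₀ j) m))).2 x
  have hcomp : ∀ {i j l : ℕᵒᵖ} (f : i ⟶ j) (g : j ⟶ l) (h : i ⟶ l) (w : G.obj i),
      (G.map g).hom ((G.map f).hom w) = (G.map h).hom w := fun f g h w => by
    rw [Subsingleton.elim h (f ≫ g)]
    exact (ConcreteCategory.congr_hom (G.map_comp f g) w).symm
  have hη' : ∀ j, (G.map (homOfLE (Nat.le_add_right n₀ j)).op).hom (η j) = x := fun j =>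
    (congrArg (fun f => (ConcreteCategory.hom f) (η j)) (hG j)).trans (hη j)
  have hGh : ∀ j (w : (A (n₀ + j)).homology m),
      ConcreteCategory.hom (HomologicalComplex.homologyMap (CohCx.transition A t n₀ j) m) w =
        (G.map (homOfLE (Nat.le_add_right n₀ j)).op).hom w := fun j w =>
    (congrArg (fun f : (A (n₀ + j)).homology m ⟶ (A n₀).homology m => (ConcreteCategory.hom f) w) (hG j)).symm
  have hηs : ∀ j, (G.map (homOfLE (Nat.le_succ (n₀ + j))).op).hom (η (j + 1)) = η j := fun j => by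
    refine ((ConcreteCategory.bijective_of_isIso (C := AddCommGrpCat)
      (HomologicalComplex.homologyMap (CohCx.transition A t n₀ j) m))).1 ?_
    refine Eq.trans ?_ (hη j).symm
    refine (hGh j _).trans ?_
    exact (hcomp _ _ _ _).trans (hη' (j + 1))
  let ξ : ∀ n, (A n).homology m := fun n => (G.map (homOfLE (Nat.le_add_left n n₀)).op).hom (η n)
  have hξ : ∀ n, (HomologicalComplex.homologyMap (t n) m).hom (ξ (n + 1)) = ξ n := fun n => by
    refine (congrArg (fun f => (ConcreteCategory.hom f) (ξ (n + 1))) (hGs n)).symm.trans ?_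
    refine Eq.trans ?_ (congrArg (G.map (homOfLE (Nat.le_add_left n n₀)).op).hom (hηs n))
    exact (hcomp _ _ ((homOfLE (Nat.le_add_left (n + 1) n₀)).op ≫ (homOfLE (Nat.le_succ n)).op) _).trans
      (hcomp _ _ _ _).symm
  have hξ₀ : ξ n₀ = x := hη' n₀
  subst hkm
  choose z hz hzξ using fun n => cls_surjective (A n) (ξ n)
  have htz : ∀ n, ((A n).d (k + 1) (k + 1 + 1)).hom (((t n).f (k + 1)).hom (z (n + 1))) = 0 := fun n => by
    rw [← f_d, hz, map_zero]
  have hb : ∀ n, ∃ b, ((A n).d k (k + 1)).hom b = z n - ((t n).f (k + 1)).hom (z (n + 1)) := fun n => by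
    refine (cls_eq_zero_iff _ rfl _ (by rw [map_sub, hz, htz, sub_zero])).1 ?_
    rw [cls_sub _ _ _ (hz n) (htz n), sub_eq_zero, ← map_cls (t n) _ (hz (n + 1)), hzξ, hzξ]
    exact (hξ n).symm
  choose b hb using hb
  obtain ⟨c, hc'⟩ := hk b
  obtain ⟨Y, hY⟩ := hmk (k + 1) (fun n => z n - ((A n).d k (k + 1)).hom (c n)) fun n => by
    have h1 : ((A n).d k (k + 1)).hom (c n) - ((A n).d k (k + 1)).hom (((t n).f k).hom (c (n + 1))) =
        z n - ((t n).f (k + 1)).hom (z (n + 1)) := by
      rw [← map_sub, ← hb n]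
      exact congrArg _ (congrFun hc' n)
    rw [map_sub, f_d]
    rw [← sub_eq_zero]
    rw [← sub_eq_zero] at h1
    rw [← h1]
    abel
  have hYc : (L.d (k + 1) (k + 1 + 1)).hom Y = 0 := hext _ _ _ fun n => by
    rw [f_d, hY, map_sub, hz, d_d, sub_zero, map_zero]
  refine ⟨cls L Y hYc, ?_⟩
  rw [map_cls, ← hξ₀, ← hzξ, ← sub_eq_zero, ← cls_sub, cls_eq_zero_iff _ rfl]
  refine ⟨-c n₀, ?_⟩
  rw [map_neg, hY]
  abel

end

end Groth.Agent.Rlim44
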