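import Groth.Agent.Rlim44.LimCxAb
import Groth.Prelude.Def_CohSite

/-!
Maps of complexes of sheaves bijective on cohomology of sections over a covering class.
-/

set_option autoImplicit false
set_option backward.isDefEq.respectTransparency false
set_option backward.isDefEq.respectTransparency.types false

universe u

open CategoryTheory CategoryTheory.Limits Opposite

namespace Groth.Agent.Rlim44

variable {C : Type u} [SmallCategory C] {J : GrothendieckTopology C} {B : Set C}

lemma isIso_map_of_bijective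
    (hB : ∀ U : C, ∃ (ι : Type u) (Y : ι → C) (f : ∀ i, Y i ⟶ U), Sieve.ofArrows Y f ∈ J U ∧ ∀ i, Y i ∈ B)
    {P Q : Cᵒᵖ ⥤ AddCommGrpCat.{u}} (ψ : P ⟶ Q) (h : ∀ U ∈ B, Function.Bijective (ψ.app (op U))) :
    IsIso ((presheafToSheaf J AddCommGrpCat.{u}).map ψ) := by
  have : Presheaf.IsLocallyInjective J ψ := ⟨fun {X} x y hxy => by
    obtain ⟨ι, Y, f, hf, hY⟩ := hB X.unop
    refine J.superset_covering ?_ hf
    rw [Sieve.ofArrows, Sieve.generate_le_iff]
    rintro _ _ ⟨i⟩
    refine (h _ (hY i)).1 ?_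
    exact (NatTrans.naturality_apply ψ (f i).op x).trans
      ((congrArg _ hxy).trans (NatTrans.naturality_apply ψ (f i).op y).symm)⟩
  have : Presheaf.IsLocallySurjective J ψ := ⟨fun {U} s => by
    obtain ⟨ι, Y, f, hf, hY⟩ := hB U
    refine J.superset_covering ?_ hf
    rw [Sieve.ofArrows, Sieve.generate_le_iff]
    rintro _ _ ⟨i⟩
    exact (h _ (hY i)).2 _⟩
  exact (GrothendieckTopology.W_iff J ψ).1 (J.W_of_isLocallyBijective ψ)

/-- A map of complexes of sheaves bijective on cohomology of sections over a covering class is bijective on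
cohomology sheaves. -/
lemma isIso_homologyMap_of_sectCx
    (hB : ∀ U : C, ∃ (ι : Type u) (Y : ι → C) (f : ∀ i, Y i ⟶ U), Sieve.ofArrows Y f ∈ J U ∧ ∀ i, Y i ∈ B)
    {F G : CochainComplex (Sheaf J AddCommGrpCat.{u}) ℤ} (g : F ⟶ G) (m : ℤ)
    (h : ∀ U ∈ B, IsIso (HomologicalComplex.homologyMap ((CohCx.sectCx J U).map g) m)) :
    IsIso (HomologicalComplex.homologyMap g m) := by
  let pg := ((sheafToPresheaf J AddCommGrpCat.{u}).mapHomologicalComplex (ComplexShape.up ℤ)).map g
  have hpg : ∀ U ∈ B, Function.Bijective ((HomologicalComplex.homologyMap pg m).app (op U)) := fun U hU => by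
    let ev := (evaluation Cᵒᵖ AddCommGrpCat.{u}).obj (op U)
    have e := ShortComplex.mapHomologyIso_hom_naturality
      ((HomologicalComplex.shortComplexFunctor (Cᵒᵖ ⥤ AddCommGrpCat.{u}) (ComplexShape.up ℤ) m).map pg) ev
    have h' : IsIso (ShortComplex.homologyMap (ev.mapShortComplex.map
      ((HomologicalComplex.shortComplexFunctor (Cᵒᵖ ⥤ AddCommGrpCat.{u}) (ComplexShape.up ℤ) m).map pg))) := h U hU
    have h'' : IsIso (ev.map (ShortComplex.homologyMap
      ((HomologicalComplex.shortComplexFunctor (Cᵒᵖ ⥤ AddCommGrpCat.{u}) (ComplexShape.up ℤ) m).map pg))) := by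
      rw [← (Iso.inv_comp_eq _).2 e]
      infer_instance
    exact ConcreteCategory.bijective_of_isIso (C := AddCommGrpCat.{u}) (ev.map (ShortComplex.homologyMap
      ((HomologicalComplex.shortComplexFunctor (Cᵒᵖ ⥤ AddCommGrpCat.{u}) (ComplexShape.up ℤ) m).map pg)))
  have h1 := isIso_map_of_bijective hB _ hpg
  have h2 : IsIso (HomologicalComplex.homologyMap
      (((presheafToSheaf J AddCommGrpCat.{u}).mapHomologicalComplex _).map pg) m) := by
    have e := ShortComplex.mapHomologyIso_hom_naturality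
      ((HomologicalComplex.shortComplexFunctor (Cᵒᵖ ⥤ AddCommGrpCat.{u}) (ComplexShape.up ℤ) m).map pg)
      (presheafToSheaf J AddCommGrpCat.{u})
    have h1' : IsIso ((presheafToSheaf J AddCommGrpCat.{u}).map (ShortComplex.homologyMap
      ((HomologicalComplex.shortComplexFunctor (Cᵒᵖ ⥤ AddCommGrpCat.{u}) (ComplexShape.up ℤ) m).map pg))) := h1
    exact (congrArg IsIso ((Iso.eq_comp_inv _).2 e)).mpr inferInstance
  let η := NatIso.mapHomologicalComplex (asIso (sheafificationAdjunction J AddCommGrpCat.{u}).counit) (ComplexShape.up ℤ) ≪≫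
    Functor.mapHomologicalComplexIdIso (Sheaf J AddCommGrpCat.{u}) (ComplexShape.up ℤ)
  have e : η.inv.app F ≫
      ((presheafToSheaf J AddCommGrpCat.{u}).mapHomologicalComplex _).map pg ≫ η.hom.app G = g :=
    NatIso.naturality_1 η g
  rw [← e, HomologicalComplex.homologyMap_comp, HomologicalComplex.homologyMap_comp]
  infer_instance

/-- The cohomology sheaves of the limit of a tower of complexes. -/
theorem isIso_homologyMap_limit
    (F : ℕ → CochainComplex (Sheaf J AddCommGrpCat.{u}) ℤ) (t : ∀ n, F (n + 1) ⟶ F n) (m : ℤ)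
    (hB : ∀ U : C, ∃ (ι : Type u) (Y : ι → C) (f : ∀ i, Y i ⟶ U), Sieve.ofArrows Y f ∈ J U ∧ ∀ i, Y i ∈ B)
    (n₀ : ℕ)
    (ha : ∀ U ∈ B, ∀ j : ℤ, (j = m - 2 ∨ j = m - 1) →
      CohCx.LimOneIsZero (fun n => ((F n).X j).obj.obj (op U)) (fun n => (((t n).f j).hom.app (op U)).hom))
    (hb : ∀ U ∈ B, CohCx.LimOneIsZero
      (fun n => ((CohCx.sectCx J U).obj (F n)).homology (m - 1))
      (fun n => (HomologicalComplex.homologyMap ((CohCx.sectCx J U).map (t n)) (m - 1)).hom))
    (hc : ∀ U ∈ B, ∀ k : ℕ, IsIso (HomologicalComplex.homologyMap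
      ((CohCx.sectCx J U).map (CohCx.transition F t n₀ k)) m)) :
    IsIso (HomologicalComplex.homologyMap (limit.π (CohCx.opSequence F t) (op n₀)) m) := by
  refine isIso_homologyMap_of_sectCx hB _ m fun U hU => ?_
  let S := CohCx.sectCx J U
  let p : ∀ n, S.obj (limit (CohCx.opSequence F t)) ⟶ S.obj (F n) :=
    fun n => S.map (limit.π (CohCx.opSequence F t) (op n))
  have hp : ∀ n, p (n + 1) ≫ S.map (t n) = p n := fun n => by
    refine (S.map_comp _ _).symm.trans (congrArg S.map ?_)
    rw [← limit.w (CohCx.opSequence F t) (homOfLE (Nat.le_succ n)).op]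
    exact congrArg (_ ≫ ·) (Functor.ofOpSequence_map_homOfLE_succ _ _).symm
  have htr : ∀ k, CohCx.transition (fun n => S.obj (F n)) (fun n => S.map (t n)) n₀ k =
      S.map (CohCx.transition F t n₀ k) := by
    intro k
    induction k with
    | zero => exact (S.map_id _).symm
    | succ k ih =>
      change S.map (t (n₀ + k)) ≫ CohCx.transition (fun n => S.obj (F n)) (fun n => S.map (t n)) n₀ k = _
      rw [ih]
      exact (S.map_comp _ _).symm
  have hlim : ∀ j : ℤ, IsLimit ((HomologicalComplex.eval (Sheaf J AddCommGrpCat.{u}) (ComplexShape.up ℤ) j ⋙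
      sheafToPresheaf J AddCommGrpCat.{u} ⋙ (evaluation Cᵒᵖ AddCommGrpCat.{u}).obj (op U)).mapCone
      (limit.cone (CohCx.opSequence F t))) := fun j => isLimitOfPreserves _ (limit.isLimit _)
  have hc' : ∀ k, IsIso (HomologicalComplex.homologyMap
      (CohCx.transition (fun n => S.obj (F n)) (fun n => S.map (t n)) n₀ k) m) := fun k => by
    rw [htr]
    exact hc U hU k
  have hext : ∀ (j : ℤ) (y y' : (S.obj (limit (CohCx.opSequence F t))).X j),
      (∀ n, ((p n).f j).hom y = ((p n).f j).hom y') → y = y' := fun j y y' h =>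
    ML41.cone_ext (hlim j) fun n => h n.unop
  have hmk : ∀ (j : ℤ) (x : ∀ n, (S.obj (F n)).X j), (∀ n, ((S.map (t n)).f j).hom (x (n + 1)) = x n) →
      ∃ y, ∀ n, ((p n).f j).hom y = x n := fun j x hx => by
    let G := CohCx.opSequence F t ⋙ HomologicalComplex.eval (Sheaf J AddCommGrpCat.{u}) (ComplexShape.up ℤ) j ⋙
      sheafToPresheaf J AddCommGrpCat.{u} ⋙ (evaluation Cᵒᵖ AddCommGrpCat.{u}).obj (op U)
    have hG : ML41.Compat G x := ML41.compat_of_succ (F := G) x fun n =>
      (congrArg (fun f : F (n + 1) ⟶ F n => ((f.f j).hom.app (op U)).hom (x (n + 1)))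
        (Functor.ofOpSequence_map_homOfLE_succ t n)).trans (hx n)
    obtain ⟨y, hy⟩ := ML41.cone_mk (hlim j) (fun n => x n.unop) fun f => hG (leOfHom f.unop)
    exact ⟨y, fun n => hy (op n)⟩
  have hinj := limCx_injective p n₀ hp hmk hext hc' (l := m - 2) (k := m - 1) (by omega) (by omega)
    (ha U hU _ (.inl rfl)) (hb U hU)
  have hsurj := limCx_surjective p n₀ hp hmk hext hc' (k := m - 1) (by omega) (ha U hU _ (.inr rfl))
  exact (ConcreteCategory.isIso_iff_bijective _).2 ⟨hinj, hsurj⟩

end Groth.Agent.Rlim44
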