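import Mathlib.Algebra.Homology.DerivedCategory.SingleTriangle
import Mathlib.CategoryTheory.Sites.MayerVietorisSquare
import Groth.Prelude.Def_CohCx

/-!
The Mayer-Vietoris sequence of hypercohomology.
-/

set_option autoImplicit false
set_option backward.isDefEq.respectTransparency false
set_option backward.isDefEq.respectTransparency.types false

universe u

open CategoryTheory CategoryTheory.Limits CategoryTheory.Pretriangulated

namespace Groth.Agent.Rlim44

lemma exact_mk₂_ab {A B C : Type u} [AddCommGroup A] [AddCommGroup B] [AddCommGroup C] (f : A →+ B) (g : B →+ C)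
    (h0 : ∀ x, g (f x) = 0) (h : ∀ y, g y = 0 → ∃ x, f x = y) :
    (ComposableArrows.mk₂ (AddCommGrpCat.ofHom f) (AddCommGrpCat.ofHom g)).Exact :=
  ((ShortComplex.ab_exact_iff (ShortComplex.mk (AddCommGrpCat.ofHom f) (AddCommGrpCat.ofHom g)
    (by ext x; exact h0 x))).2 h).exact_toComposableArrows

variable {C : Type u} [SmallCategory C] {J : GrothendieckTopology C}
  [HasWeakSheafify J (Type u)] [HasDerivedCategory.{u} (Sheaf J AddCommGrpCat.{u})]

set_option maxHeartbeats 1000000 in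
theorem mayerVietoris (S : J.MayerVietorisSquare) (K : DerivedCategory (Sheaf J AddCommGrpCat.{u})) :
    ∃ δ : ∀ n : ℤ, CohCx.HDU K n S.X₁ →+ CohCx.HDU K (n + 1) S.X₄,
      ∀ n : ℤ,
        (ComposableArrows.mk₂
          (AddCommGrpCat.ofHom ((CohCx.HDUres K n S.f₂₄).prod (CohCx.HDUres K n S.f₃₄)))
          (AddCommGrpCat.ofHom ((CohCx.HDUres K n S.f₁₂).coprod (-(CohCx.HDUres K n S.f₁₃))))).Exact ∧
        (ComposableArrows.mk₂
          (AddCommGrpCat.ofHom ((CohCx.HDUres K n S.f₁₂).coprod (-(CohCx.HDUres K n S.f₁₃))))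
          (AddCommGrpCat.ofHom (δ n))).Exact ∧
        (ComposableArrows.mk₂ (AddCommGrpCat.ofHom (δ n))
          (AddCommGrpCat.ofHom ((CohCx.HDUres K (n + 1) S.f₂₄).prod (CohCx.HDUres K (n + 1) S.f₃₄)))).Exact := by
  let D := DerivedCategory (Sheaf J AddCommGrpCat.{u})
  let L : Sheaf J AddCommGrpCat.{u} ⥤ D := DerivedCategory.singleFunctor (Sheaf J AddCommGrpCat.{u}) 0
  have hS := S.shortComplex_shortExact
  let φ₁₂ := CohCx.freeSheafMap J S.f₁₂
  let φ₁₃ := CohCx.freeSheafMap J S.f₁₃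
  let φ₂₄ := CohCx.freeSheafMap J S.f₂₄
  let φ₃₄ := CohCx.freeSheafMap J S.f₃₄
  let f : CohCx.freeSheaf J S.X₁ ⟶ CohCx.freeSheaf J S.X₂ ⊞ CohCx.freeSheaf J S.X₃ := biprod.lift φ₁₂ (-φ₁₃)
  let g : CohCx.freeSheaf J S.X₂ ⊞ CohCx.freeSheaf J S.X₃ ⟶ CohCx.freeSheaf J S.X₄ := biprod.desc φ₂₄ φ₃₄
  let T : Triangle D := Triangle.mk (L.map f) (L.map g) hS.singleδ
  have hT : T ∈ distTriang D := hS.singleTriangle_distinguished
  have lift_comp : ∀ (Φ : D) (a : L.obj (CohCx.freeSheaf J S.X₂) ⟶ Φ) (b : L.obj (CohCx.freeSheaf J S.X₃) ⟶ Φ),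
      L.map f ≫ (L.map biprod.fst ≫ a + L.map biprod.snd ≫ b) = L.map φ₁₂ ≫ a + -(L.map φ₁₃ ≫ b) := fun Φ a b => by
    rw [Preadditive.comp_add, ← Category.assoc, ← Category.assoc, ← L.map_comp, ← L.map_comp, biprod.lift_fst,
      biprod.lift_snd, L.map_neg, Preadditive.neg_comp]
  have desc_comp : ∀ (Φ : D) (x : L.obj (CohCx.freeSheaf J S.X₄) ⟶ Φ),
      L.map g ≫ x = L.map biprod.fst ≫ (L.map φ₂₄ ≫ x) + L.map biprod.snd ≫ (L.map φ₃₄ ≫ x) := fun Φ x => by
    rw [← Category.assoc, ← Category.assoc, ← L.map_comp, ← L.map_comp, ← Preadditive.add_comp, ← L.map_add,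
      ← biprod.desc_eq]
  have inl_comp : ∀ (Φ : D) (a : L.obj (CohCx.freeSheaf J S.X₂) ⟶ Φ) (b : L.obj (CohCx.freeSheaf J S.X₃) ⟶ Φ),
      L.map biprod.inl ≫ (L.map biprod.fst ≫ a + L.map biprod.snd ≫ b) = a := fun Φ a b => by
    rw [Preadditive.comp_add, ← Category.assoc, ← Category.assoc, ← L.map_comp, ← L.map_comp, biprod.inl_fst,
      biprod.inl_snd, L.map_id, L.map_zero, Category.id_comp, zero_comp, add_zero]
  have inr_comp : ∀ (Φ : D) (a : L.obj (CohCx.freeSheaf J S.X₂) ⟶ Φ) (b : L.obj (CohCx.freeSheaf J S.X₃) ⟶ Φ),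
      L.map biprod.inr ≫ (L.map biprod.fst ≫ a + L.map biprod.snd ≫ b) = b := fun Φ a b => by
    rw [Preadditive.comp_add, ← Category.assoc, ← Category.assoc, ← L.map_comp, ← L.map_comp, biprod.inr_fst,
      biprod.inr_snd, L.map_id, L.map_zero, Category.id_comp, zero_comp, zero_add]
  let e : ∀ n : ℤ, (shiftFunctor D (1 : ℤ)).obj ((shiftFunctor D n).obj K) ≅ (shiftFunctor D (n + 1)).obj K :=
    fun n => ((shiftFunctorAdd' D n 1 (n + 1) rfl).app K).symm
  refine ⟨fun n => AddMonoidHom.mk' (fun y => hS.singleδ ≫ y⟦(1 : ℤ)⟧' ≫ (e n).hom) (fun x y => by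
    rw [Functor.map_add, Preadditive.add_comp, Preadditive.comp_add]), fun n => ⟨?_, ?_, ?_⟩⟩
  · refine exact_mk₂_ab _ _ (fun x => ?_) ?_
    · change L.map φ₁₂ ≫ L.map φ₂₄ ≫ x + -(L.map φ₁₃ ≫ L.map φ₃₄ ≫ x) = 0
      rw [← lift_comp, ← desc_comp, ← Category.assoc]
      exact (congrArg (· ≫ x) (comp_distTriang_mor_zero₁₂ T hT)).trans zero_comp
    · rintro ⟨a, b⟩ hab
      obtain ⟨x, hx⟩ := Triangle.yoneda_exact₂ T hT (L.map biprod.fst ≫ a + L.map biprod.snd ≫ b)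
        ((lift_comp _ a b).trans hab)
      refine ⟨x, Prod.ext ?_ ?_⟩
      · change L.map φ₂₄ ≫ x = a
        rw [← inl_comp _ a b, hx]
        change _ = L.map biprod.inl ≫ L.map g ≫ x
        rw [← Category.assoc, ← L.map_comp, biprod.inl_desc]
      · change L.map φ₃₄ ≫ x = b
        rw [← inr_comp _ a b, hx]
        change _ = L.map biprod.inr ≫ L.map g ≫ x
        rw [← Category.assoc, ← L.map_comp, biprod.inr_desc]
  · refine exact_mk₂_ab _ _ ?_ ?_
    · rintro ⟨a, b⟩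
      change hS.singleδ ≫ (L.map φ₁₂ ≫ a + -(L.map φ₁₃ ≫ b))⟦(1 : ℤ)⟧' ≫ (e n).hom = 0
      rw [← lift_comp, Functor.map_comp, Category.assoc, ← Category.assoc]
      exact (congrArg (· ≫ _) (comp_distTriang_mor_zero₃₁ T hT)).trans zero_comp
    · intro y hy
      have hy' : hS.singleδ ≫ y⟦(1 : ℤ)⟧' = 0 :=
        (cancel_mono (e n).hom).1 ((Category.assoc _ _ _).trans (hy.trans zero_comp.symm))
      obtain ⟨k, hk⟩ := Triangle.yoneda_exact₃ T.rotate (rot_of_distTriang T hT) (y⟦(1 : ℤ)⟧') hy'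
      obtain ⟨w, rfl⟩ := (shiftFunctor D (1 : ℤ)).map_surjective k
      have hw : y = L.map f ≫ (-w) := (shiftFunctor D (1 : ℤ)).map_injective (hk.trans (by
        change (-((L.map f)⟦(1 : ℤ)⟧')) ≫ w⟦(1 : ℤ)⟧' = _
        rw [Preadditive.neg_comp, ← Functor.map_comp, ← Functor.map_neg, Preadditive.comp_neg]))
      have hdec : ∀ v : L.obj (CohCx.freeSheaf J S.X₂ ⊞ CohCx.freeSheaf J S.X₃) ⟶ (shiftFunctor D n).obj K,
          L.map biprod.fst ≫ L.map biprod.inl ≫ v + L.map biprod.snd ≫ L.map biprod.inr ≫ v = v := fun v => by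
        rw [← Category.assoc, ← Category.assoc, ← L.map_comp, ← L.map_comp, ← Preadditive.add_comp, ← L.map_add,
          biprod.total, L.map_id, Category.id_comp]
      refine ⟨(L.map biprod.inl ≫ (-w), L.map biprod.inr ≫ (-w)), ?_⟩
      change L.map φ₁₂ ≫ _ + -(L.map φ₁₃ ≫ _) = y
      exact (lift_comp _ _ _).symm.trans ((congrArg (L.map f ≫ ·) (hdec (-w))).trans hw.symm)
  · refine exact_mk₂_ab _ _ (fun y => ?_) fun x hx => ?_
    · have hz : L.map g ≫ hS.singleδ ≫ y⟦(1 : ℤ)⟧' ≫ (e n).hom = 0 := by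
        rw [← Category.assoc]
        exact (congrArg (· ≫ _) (comp_distTriang_mor_zero₂₃ T hT)).trans zero_comp
      refine Prod.ext ?_ ?_
      · change L.map φ₂₄ ≫ _ = 0
        rw [show L.map φ₂₄ = L.map biprod.inl ≫ L.map g by rw [← L.map_comp, biprod.inl_desc], Category.assoc]
        exact (congrArg (L.map biprod.inl ≫ ·) hz).trans comp_zero
      · change L.map φ₃₄ ≫ _ = 0
        rw [show L.map φ₃₄ = L.map biprod.inr ≫ L.map g by rw [← L.map_comp, biprod.inr_desc], Category.assoc]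
        exact (congrArg (L.map biprod.inr ≫ ·) hz).trans comp_zero
    · have hx' : L.map g ≫ x = 0 := by
        rw [desc_comp, show L.map φ₂₄ ≫ x = 0 from congrArg Prod.fst hx,
          show L.map φ₃₄ ≫ x = 0 from congrArg Prod.snd hx, comp_zero, comp_zero, add_zero]
      obtain ⟨k, hk⟩ := Triangle.yoneda_exact₃ T hT x hx'
      obtain ⟨y, hy⟩ := (shiftFunctor D (1 : ℤ)).map_surjective (k ≫ (e n).inv)
      refine ⟨y, ?_⟩
      change hS.singleδ ≫ y⟦(1 : ℤ)⟧' ≫ (e n).hom = x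
      rw [hy, Category.assoc, Iso.inv_hom_id, Category.comp_id]
      exact hk.symm

end Groth.Agent.Rlim44
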