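import Groth.Agent.Mod48.Milnor
import Mathlib.CategoryTheory.Shift.Adjunction
import Mathlib.CategoryTheory.Adjunction.Additive

/-!
The Milnor sequence of a derived limit in all degrees.
-/

set_option autoImplicit false

universe v u

open CategoryTheory CategoryTheory.Limits CategoryTheory.Pretriangulated

namespace Groth.Agent.Rlim44

variable {T : Type u} [Category.{v} T] [Preadditive T] [HasShift T ℤ] [∀ n : ℤ, (shiftFunctor T n).Additive]

/-- Moving a shift to the source. -/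
noncomputable def eShift (m : ℤ) (X K : T) : ((shiftFunctor T (-m)).obj X ⟶ K) ≃+ (X ⟶ (shiftFunctor T m).obj K) :=
  have : (shiftEquiv T m).symm.functor.Additive := inferInstanceAs (shiftFunctor T (-m)).Additive
  (shiftEquiv T m).symm.toAdjunction.homAddEquiv X K

lemma eShift_comp (m : ℤ) {X K K' : T} (f : (shiftFunctor T (-m)).obj X ⟶ K) (g : K ⟶ K') :
    eShift m X K' (f ≫ g) = eShift m X K f ≫ (shiftFunctor T m).map g :=
  (shiftEquiv T m).symm.toAdjunction.homEquiv_naturality_right f g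

lemma eShift_symm_comp (m : ℤ) {X K K' : T} (f : X ⟶ (shiftFunctor T m).obj K) (g : K ⟶ K') :
    (eShift m X K).symm f ≫ g = (eShift m X K').symm (f ≫ (shiftFunctor T m).map g) := by
  apply (eShift m X K').injective
  rw [eShift_comp, AddEquiv.apply_symm_apply, AddEquiv.apply_symm_apply]

/-- The comparison of vanishing of `R¹ lim` along compatible bijections. -/
lemma limOne_congr {A B : ℕ → Type v} [∀ n, AddCommGroup (A n)] [∀ n, AddCommGroup (B n)]
    {t : ∀ n, A (n + 1) →+ A n} {s : ∀ n, B (n + 1) →+ B n} (e : ∀ n, A n →+ B n)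
    (he : ∀ n, Function.Bijective (e n)) (hcomm : ∀ n x, e n (t n x) = s n (e (n + 1) x))
    (h : CohCx.LimOneIsZero B s) : CohCx.LimOneIsZero A t := by
  intro g
  obtain ⟨b, hb⟩ := h fun n => e n (g n)
  choose a ha using fun n => (he n).2 (b n)
  refine ⟨a, funext fun n => (he n).1 ?_⟩
  change e n (a n - t n (a (n + 1))) = _
  rw [map_sub, hcomm, ha, ha]
  exact congrFun hb n

variable [HasZeroObject T] [Pretriangulated T] {K : ℕ → T} {t : ∀ n, K (n + 1) ⟶ K n} [HasProduct K] {L : T}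
  {a : ∀ n, L ⟶ K n}

lemma transition_comp (hL : CohCx.IsRlimVia K t L a) (n : ℕ) :
    ∀ k : ℕ, a (n + k) ≫ CohCx.transition K t n k = a n
  | 0 => Category.comp_id _
  | k + 1 => by
    change a (n + k + 1) ≫ t (n + k) ≫ CohCx.transition K t n k = a n
    rw [← Category.assoc, Mod48.rlim_compatible hL, transition_comp hL n k]

/-- Compatible families lift to the derived limit. -/
theorem rlim_lift (hL : CohCx.IsRlimVia K t L a) (m : ℤ) (X : T) (x : ∀ n, X ⟶ (shiftFunctor T m).obj (K n))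
    (hx : ∀ n, x (n + 1) ≫ (shiftFunctor T m).map (t n) = x n) :
    ∃ y : X ⟶ (shiftFunctor T m).obj L, ∀ n, y ≫ (shiftFunctor T m).map (a n) = x n := by
  obtain ⟨c, hc⟩ := hL
  let z : ∀ n, (shiftFunctor T (-m)).obj X ⟶ K n := fun n => (eShift m X (K n)).symm (x n)
  have hz : ∀ n, z (n + 1) ≫ t n = z n := fun n => (eShift_symm_comp m _ _).trans (congrArg _ (hx n))
  obtain ⟨w, hw⟩ : ∃ w : (shiftFunctor T (-m)).obj X ⟶ L, Pi.lift z = w ≫ Pi.lift a :=
    Triangle.coyoneda_exact₂ _ hc (Pi.lift z) (by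
    change Pi.lift z ≫ Pi.lift (fun k => Pi.π K k - Pi.π K (k + 1) ≫ t k) = 0
    refine Pi.hom_ext _ _ fun k => ?_
    rw [Category.assoc, Pi.lift_π, Preadditive.comp_sub, Pi.lift_π, Pi.lift_π_assoc, zero_comp, hz, sub_self])
  refine ⟨eShift m X L w, fun n => ?_⟩
  have h : Pi.lift z ≫ Pi.π K n = (w ≫ Pi.lift a) ≫ Pi.π K n := congrArg (· ≫ Pi.π K n) hw
  rw [Pi.lift_π, Category.assoc, Pi.lift_π] at h
  rw [← eShift_comp, ← h]
  exact AddEquiv.apply_symm_apply _ _

/-- A class with zero images vanishes when `R¹ lim` one degree below does. -/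
theorem rlim_unique (hL : CohCx.IsRlimVia K t L a) (m : ℤ) (X : T)
    (hlim : CohCx.LimOneIsZero (fun n => X ⟶ (shiftFunctor T (m - 1)).obj (K n))
      (fun n => Preadditive.rightComp X ((shiftFunctor T (m - 1)).map (t n))))
    (y : X ⟶ (shiftFunctor T m).obj L) (hy : ∀ n, y ≫ (shiftFunctor T m).map (a n) = 0) : y = 0 := by
  obtain ⟨c, hc⟩ := hL
  let y' := (eShift m X L).symm y
  have hy' : y' ≫ Pi.lift a = 0 := by
    refine Pi.hom_ext _ _ fun n => ?_
    rw [Category.assoc, Pi.lift_π, zero_comp, eShift_symm_comp, hy, map_zero]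
  obtain ⟨g, hg⟩ := Triangle.coyoneda_exact₁ _ hc (y'⟦(1 : ℤ)⟧') (by
    change y'⟦(1 : ℤ)⟧' ≫ (Pi.lift a)⟦(1 : ℤ)⟧' = 0
    rw [← Functor.map_comp, hy', Functor.map_zero])
  let j : ((shiftFunctor T (-m)).obj X)⟦(1 : ℤ)⟧ ≅ (shiftFunctor T (-(m - 1))).obj X :=
    ((shiftFunctorAdd' T (-m) 1 (-(m - 1)) (by ring)).app X).symm
  obtain ⟨h', hh'⟩ := hlim fun n => eShift (m - 1) X (K n) (j.inv ≫ g ≫ Pi.π K n)
  let h : ∀ n, ((shiftFunctor T (-m)).obj X)⟦(1 : ℤ)⟧ ⟶ K n := fun n =>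
    j.hom ≫ (eShift (m - 1) X (K n)).symm (h' n)
  have hg' : g = Pi.lift h ≫ Pi.lift (fun k => Pi.π K k - Pi.π K (k + 1) ≫ t k) := by
    refine Pi.hom_ext _ _ fun k => ?_
    rw [Category.assoc, Pi.lift_π, Preadditive.comp_sub, Pi.lift_π, Pi.lift_π_assoc]
    have hk : h' k - h' (k + 1) ≫ (shiftFunctor T (m - 1)).map (t k) =
        eShift (m - 1) X (K k) (j.inv ≫ g ≫ Pi.π K k) := congrFun hh' k
    change g ≫ Pi.π K k = j.hom ≫ (eShift (m - 1) X (K k)).symm (h' k) -
      (j.hom ≫ (eShift (m - 1) X (K (k + 1))).symm (h' (k + 1))) ≫ t k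
    rw [Category.assoc, eShift_symm_comp, ← Preadditive.comp_sub, ← map_sub, hk, AddEquiv.symm_apply_apply,
      Iso.hom_inv_id_assoc]
  have hz : Pi.lift (fun k => Pi.π K k - Pi.π K (k + 1) ≫ t k) ≫ c = 0 := comp_distTriang_mor_zero₂₃ _ hc
  have h1 : y' = 0 := by
    refine (shiftFunctor T (1 : ℤ)).map_injective ?_
    rw [Functor.map_zero]
    refine hg.trans ?_
    change g ≫ c = 0
    rw [hg']
    exact ((Category.assoc _ _ _).trans (congrArg (Pi.lift h ≫ ·) hz)).trans comp_zero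
  have h2 : eShift m X L y' = y := AddEquiv.apply_symm_apply _ _
  rw [← h2, h1, map_zero]

end Groth.Agent.Rlim44
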