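import Groth.Agent.Rlim44.RlimSec
import Mathlib.Topology.Sheaves.Stalks

/-!
Derived limits and stalks on a space.
-/

set_option autoImplicit false
set_option backward.isDefEq.respectTransparency false
set_option backward.isDefEq.respectTransparency.types false

universe u

open CategoryTheory CategoryTheory.Limits TopologicalSpace DerivedCategory Opposite

namespace Groth.Agent.Rlim44

variable {X : TopCat.{u}}

lemma exists_cover_of_isBasis {B : Set (Opens X)} (hB : Opens.IsBasis B) (U : Opens X) :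
    ∃ (ι : Type u) (Y : ι → Opens X) (f : ∀ i, Y i ⟶ U),
      Sieve.ofArrows Y f ∈ Opens.grothendieckTopology X U ∧ ∀ i, Y i ∈ B := by
  refine ⟨{W : Opens X // W ∈ B ∧ W ≤ U}, fun W => W.1, fun W => homOfLE W.2.2, fun x hx => ?_, fun W => W.2.1⟩
  obtain ⟨W, hW, hxW, hle⟩ := Opens.isBasis_iff_nbhd.1 hB hx
  exact ⟨W, homOfLE hle, (Sieve.mem_ofArrows_iff _ _ _).2 ⟨⟨W, hW, hle⟩, 𝟙 _, Subsingleton.elim _ _⟩, hxW⟩

theorem stalk_injective [HasDerivedCategory.{u} (CohTop.Ab X)]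
    (K : ℕ → DerivedCategory (CohTop.Ab X)) (t : ∀ n, K (n + 1) ⟶ K n) [HasProduct K]
    (L : DerivedCategory (CohTop.Ab X)) (a : ∀ n, L ⟶ K n) (hL : CohCx.IsRlimVia K t L a)
    (x : X) (m : ℤ) (nx : ℕ)
    (h : ∀ V : Opens X, x ∈ V → ∃ U : Opens X, x ∈ U ∧ U ≤ V ∧
      CohCx.LimOneIsZero (fun n => CohCx.HDU (K n) (m - 1) U)
        (fun n => Preadditive.rightComp _ ((shiftFunctor _ (m - 1)).map (t n))) ∧
      ∀ k : ℕ, Function.Injective
        (Preadditive.rightComp _ ((shiftFunctor _ m).map (CohCx.transition K t nx k)) :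
          CohCx.HDU (K (nx + k)) m U → CohCx.HDU (K nx) m U)) :
    Function.Injective ((TopCat.Presheaf.stalkFunctor AddCommGrpCat.{u} x).map
      ((DerivedCategory.homologyFunctor (CohTop.Ab X) m).map (a nx)).hom) := by
  let φ := ((DerivedCategory.homologyFunctor (CohTop.Ab X) m).map (a nx)).hom
  refine (injective_iff_map_eq_zero _).2 fun σ hσ => ?_
  obtain ⟨V, hxV, s, rfl⟩ := TopCat.Presheaf.exists_germ_eq _ σ
  have hs : TopCat.Presheaf.germ (CohCx.HD (K nx) m).obj V x hxV (φ.app (op V) s) = 0 :=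
    (TopCat.Presheaf.stalkFunctor_map_germ_apply V x hxV φ s).symm.trans hσ
  obtain ⟨W, hxW, iV, iW, hW⟩ := TopCat.Presheaf.germ_eq _ x hxV hxV (φ.app (op V) s) 0 (hs.trans (map_zero _).symm)
  let s' := (CohCx.HD L m).obj.map iV.op s
  have hs' : φ.app (op W) s' = 0 := (NatTrans.naturality_apply φ iV.op s).trans (hW.trans (map_zero _))
  obtain ⟨T, hT, hx⟩ := exists_sieve (a := a) nx s' hs'
  obtain ⟨W', g, hg, hxW'⟩ := hT x hxW
  obtain ⟨U, hxU, hle, hlim, hinj⟩ := h W' hxW'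
  obtain ⟨y, hy₁, hy₂⟩ := hx (homOfLE hle ≫ g) (T.downward_closed hg _)
  have h0 : y = 0 := eq_zero_of_injective hL nx hlim hinj y hy₂
  rw [h0, map_zero] at hy₁
  refine (TopCat.Presheaf.germ_res_apply (CohCx.HD L m).obj iV x hxW s).symm.trans ?_
  refine (TopCat.Presheaf.germ_res_apply (CohCx.HD L m).obj (homOfLE hle ≫ g) x hxU s').symm.trans ?_
  rw [← hy₁]
  exact map_zero _

end Groth.Agent.Rlim44
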