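import Groth.Agent.Rlim44.KInjCycles
import Groth.Agent.Rlim44.LimCxSheaf
import Groth.Agent.Rlim44.RlimTop
import Groth.Agent.Fib44.KInjAdj
import Groth.Agent.Coh69.Push
import Groth.Agent.Mod48.CmpAdj

/-!
Negative vanishing of hypercohomology over a basis and the sheaf of zeroth hypercohomology.
-/

set_option autoImplicit false
set_option backward.isDefEq.respectTransparency false
set_option backward.isDefEq.respectTransparency.types false

universe u

open CategoryTheory CategoryTheory.Limits TopologicalSpace Opposite DerivedCategory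

namespace Groth.Agent.Rlim44

variable {X Y : TopCat.{u}} (f : X ⟶ Y)

/-- The direct image of a complex. -/
noncomputable abbrev pushCx (I : CochainComplex (CohTop.Ab X) ℤ) : CochainComplex (CohTop.Ab Y) ℤ :=
  ((CohTop.push f).mapHomologicalComplex (ComplexShape.up ℤ)).obj I

lemma isKInjective_pushCx (I : CochainComplex (CohTop.Ab X) ℤ) [hI : I.IsKInjective] : (pushCx f I).IsKInjective := by
  let adj := TopCat.Sheaf.pullbackPushforwardAdjunction AddCommGrpCat.{u} f
  have : (CohTop.push f).IsRightAdjoint := adj.isRightAdjoint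
  have : (TopCat.Sheaf.pullback AddCommGrpCat.{u} f).IsLeftAdjoint := adj.isLeftAdjoint
  have : PreservesFiniteLimits (TopCat.Sheaf.pullback AddCommGrpCat.{u} f) :=
    Groth.Agent.Coh69.pullback_preservesFiniteLimits f
  have : PreservesFiniteColimits (TopCat.Sheaf.pullback AddCommGrpCat.{u} f) :=
    ⟨fun I _ _ => adj.leftAdjoint_preservesColimits.preservesColimitsOfShape⟩
  have : (TopCat.Sheaf.pushforward AddCommGrpCat.{u} f).Additive := inferInstanceAs (CohTop.push f).Additive
  have : (TopCat.Sheaf.pullback AddCommGrpCat.{u} f).Additive := adj.left_adjoint_additive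
  exact Groth.Agent.Fib44.isKInjective_map_of_adj (R := CohTop.push f) adj I hI

variable [HasDerivedCategory.{u} (CohTop.Ab X)]

lemma isGE_pushCx (I : CochainComplex (CohTop.Ab X) ℤ) [I.IsKInjective] {B : Set (Opens Y)} (hB : Opens.IsBasis B)
    (h : ∀ V ∈ B, ∀ i : ℤ, i < 0 → Subsingleton (CohCx.HDU (Q.obj I) i ((Opens.map f).obj V))) :
    (pushCx f I).IsGE 0 := by
  refine (CochainComplex.isGE_iff _ _).2 fun i hi => ?_
  rw [HomologicalComplex.exactAt_iff_isZero_homology]
  have hz : ∀ V ∈ B, IsZero (((CohCx.sectCx (Opens.grothendieckTopology Y) V).obj (pushCx f I)).homology i) :=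
    fun V hV => by
      let A := (CohCx.sectCx (Opens.grothendieckTopology Y) V).obj (pushCx f I)
      have h' : Subsingleton (A.homology i) := ⟨fun a b => by
        have h0 : ∀ c : A.homology i, c = 0 := fun c => by
          obtain ⟨z, hz, rfl⟩ := ML41.cls_surjective A c
          refine (ML41.cls_eq_zero_iff A (m := i - 1) (by omega) z hz).2 ?_
          exact (scls_eq_zero_iff I (U := (Opens.map f).obj V) z hz).1 ((h V hV i hi).elim _ _)
        exact (h0 a).trans (h0 b).symm⟩
      exact AddCommGrpCat.isZero_of_subsingleton _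
  have := isIso_homologyMap_of_sectCx (fun U => exists_cover_of_isBasis hB U) (0 : pushCx f I ⟶ pushCx f I) i
    (fun V hV => ⟨0, (hz V hV).eq_of_src _ _, (hz V hV).eq_of_src _ _⟩)
  rw [IsZero.iff_id_eq_zero, ← cancel_mono (HomologicalComplex.homologyMap (0 : pushCx f I ⟶ pushCx f I) i)]
  rw [HomologicalComplex.homologyMap_zero, comp_zero, comp_zero]

lemma subsingleton_of_isGE (I : CochainComplex (CohTop.Ab X) ℤ) [I.IsKInjective] [(pushCx f I).IsGE 0]
    (V : Opens Y) (i : ℤ) (hi : i < 0) : Subsingleton (CohCx.HDU (Q.obj I) i ((Opens.map f).obj V)) := by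
  have := isKInjective_pushCx f I
  have h0 : ∀ x : CohCx.HDU (Q.obj I) i ((Opens.map f).obj V), x = 0 := fun x => by
    obtain ⟨s, hs, rfl⟩ := scls_surjective I x
    exact (scls_eq_zero_iff I s hs).2 (exists_boundary_of_neg (pushCx f I) hi (U := V) s hs)
  exact ⟨fun a b => (h0 a).trans (h0 b).symm⟩

lemma isSheaf_of_isGE (I : CochainComplex (CohTop.Ab X) ℤ) [I.IsKInjective] [(pushCx f I).IsGE 0] :
    Presheaf.IsSheaf (Opens.grothendieckTopology Y) ((Opens.map f).op ⋙ CohCx.HDUPresheaf (Q.obj I) 0) := by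
  have := isKInjective_pushCx f I
  refine (Presheaf.isSheaf_iff_isSheaf_forget _ _ (forget AddCommGrpCat.{u})).2
    ((isSheaf_iff_isSheaf_of_type _ _).2 fun U S hS x hx => ?_)
  have hx' := (Presieve.compatible_iff_sieveCompatible x).1 hx
  choose s hs hsx using fun (V : Opens Y) (g : V ⟶ U) (hg : S g) =>
    scls_surjective I (U := (Opens.map f).obj V) (x g hg)
  have hres : ∀ {V W : Opens Y} (k : W ⟶ V) (s : (I.X 0).obj.obj (op ((Opens.map f).obj V)))
      (hs : (I.d 0 (0 + 1)).hom.app _ s = 0),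
      (((Opens.map f).op ⋙ CohCx.HDUPresheaf (Q.obj I) 0) ⋙ forget AddCommGrpCat.{u}).map k.op (scls I s hs) =
        scls I ((I.X 0).obj.map ((Opens.map f).map k).op s) (by rw [NatTrans.naturality_apply, hs, map_zero]) :=
    fun k s hs => scls_res I ((Opens.map f).map k) s hs
  obtain ⟨t₀, ht₀, htg₀⟩ := exists_glue (pushCx f I) (U := U) S hS (fun V g hg => s V g hg) (fun V g hg => hs V g hg)
    fun V W g hg k => by
      change ∃ b : (I.X (0 - 1)).obj.obj (op ((Opens.map f).obj W)), (I.d (0 - 1) 0).hom.app (op ((Opens.map f).obj W)) b =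
        (I.X 0).obj.map ((Opens.map f).map k).op (s V g hg) - s W (k ≫ g) (S.downward_closed hg k)
      refine (scls_eq_zero_iff I (U := (Opens.map f).obj W) _ ?_).1 ?_
      · rw [map_sub, NatTrans.naturality_apply, hs, map_zero]
        exact (zero_sub _).trans (neg_eq_zero.2 (hs W _ _))
      · refine (scls_sub I _ _ (by rw [NatTrans.naturality_apply, hs, map_zero]) (hs W _ _)).trans ?_
        rw [sub_eq_zero, hsx]
        refine (hres k _ (hs V g hg)).symm.trans ?_
        rw [hsx]
        exact (hx' g k hg).symm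
  let t : (I.X 0).obj.obj (op ((Opens.map f).obj U)) := t₀
  have ht : (I.d 0 (0 + 1)).hom.app (op ((Opens.map f).obj U)) t = 0 := ht₀
  have htg : ∀ (V : Opens Y) (g : V ⟶ U) (hg : S g), ∃ b : (I.X (0 - 1)).obj.obj (op ((Opens.map f).obj V)),
      (I.d (0 - 1) 0).hom.app (op ((Opens.map f).obj V)) b =
        (I.X 0).obj.map ((Opens.map f).map g).op t - s V g hg := htg₀
  refine ⟨scls I (U := (Opens.map f).obj U) t ht, fun V g hg => ?_, fun y hy => ?_⟩
  · refine (hres g t ht).trans ?_
    refine Eq.trans ?_ (hsx V g hg)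
    rw [← sub_eq_zero, ← scls_sub]
    exact (scls_eq_zero_iff I _ _).2 (htg V g hg)
  · obtain ⟨s', hs', rfl⟩ := scls_surjective I (U := (Opens.map f).obj U) y
    refine sub_eq_zero.1 ((scls_sub I s' t hs' ht).symm.trans ((scls_eq_zero_iff I _ _).2 ?_))
    refine exists_boundary_of_locally (pushCx f I) (U := U) (s' - t) (by
      change ((pushCx f I).d 0 (0 + 1)).hom.app (op U) (s' - t) = 0
      rw [map_sub]
      exact (congrArg₂ (· - ·) hs' ht).trans (sub_zero _)) S hS fun V g hg => ?_
    refine (scls_eq_zero_iff I (U := (Opens.map f).obj V) ((I.X 0).obj.map ((Opens.map f).map g).op (s' - t)) (by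
      rw [NatTrans.naturality_apply, map_sub, hs', ht, sub_zero, map_zero])).1 ?_
    have e : (I.X 0).obj.map ((Opens.map f).map g).op (s' - t) =
        (I.X 0).obj.map ((Opens.map f).map g).op s' - (I.X 0).obj.map ((Opens.map f).map g).op t := map_sub _ _ _
    simp only [e]
    rw [scls_sub I _ _ (by rw [NatTrans.naturality_apply, hs', map_zero]) (by rw [NatTrans.naturality_apply, ht, map_zero]),
      sub_eq_zero]
    refine ((hres g s' hs').symm.trans (hy g hg)).trans ((hsx V g hg).symm.trans ?_)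
    refine (sub_eq_zero.1 ?_).symm
    rw [← scls_sub]
    exact (scls_eq_zero_iff I _ _).2 (htg V g hg)

theorem negative_vanishing {B : Set (Opens Y)} (hB : Opens.IsBasis B)
    (K : DerivedCategory (CohTop.Ab X))
    (h : ∀ V ∈ B, ∀ i : ℤ, i < 0 → Subsingleton (CohCx.HDU K i ((Opens.map f).obj V))) :
    (∀ (V : Opens Y) (i : ℤ), i < 0 → Subsingleton (CohCx.HDU K i ((Opens.map f).obj V))) ∧
    Presheaf.IsSheaf (Opens.grothendieckTopology Y) ((Opens.map f).op ⋙ CohCx.HDUPresheaf K 0) := by
  obtain ⟨I, hI, ⟨e₀⟩⟩ := Mod48.exists_Qh_iso_kInjective (CohTop.Ab X) Mod48.enoughKInj K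
  let e : Q.obj I ≅ K := ((DerivedCategory.quotientCompQhIso _).app I).symm ≪≫ e₀
  let E : ∀ (i : ℤ) (W : Opens X), CohCx.HDU (Q.obj I) i W ≃ CohCx.HDU K i W :=
    fun i W => ((shiftFunctor _ i).mapIso e).homToEquiv
  have := isGE_pushCx f I hB fun V hV i hi => (E i _).subsingleton_congr.2 (h V hV i hi)
  refine ⟨fun V i hi => (E i _).subsingleton_congr.1 (subsingleton_of_isGE f I V i hi), ?_⟩
  refine (Presheaf.isSheaf_of_iso_iff (Functor.isoWhiskerLeft (Opens.map f).op
    (Functor.isoWhiskerLeft _ (preadditiveYoneda.mapIso ((shiftFunctor _ (0 : ℤ)).mapIso e))))).1 (isSheaf_of_isGE f I)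

end Groth.Agent.Rlim44
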