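import Groth.Agent.Rlim44.SecHom
import Groth.Agent.Rlim44.Milnor
import Groth.Prelude.Def_DCoh2

/-!
Sections and cohomology sheaves of derived limits of complexes of abelian sheaves.
-/

set_option autoImplicit false
set_option linter.unusedSectionVars false
set_option backward.isDefEq.respectTransparency false
set_option backward.isDefEq.respectTransparency.types false

universe u

open CategoryTheory CategoryTheory.Limits CategoryTheory.Pretriangulated DerivedCategory Opposite
open Groth.Agent.Mod48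

namespace Groth.Agent.Rlim44

variable {C : Type u} [SmallCategory C] {J : GrothendieckTopology C}
  [HasDerivedCategory.{u} (Sheaf J AddCommGrpCat.{u})]
  {K : ℕ → DerivedCategory (Sheaf J AddCommGrpCat.{u})} {t : ∀ n, K (n + 1) ⟶ K n} [HasProduct K]
  {L : DerivedCategory (Sheaf J AddCommGrpCat.{u})} {a : ∀ n, L ⟶ K n}

/-- A derived limit is one through given maps. -/
lemma exists_isRlimVia (hL : DCoh.IsRlim K t L) : ∃ a : ∀ n, L ⟶ K n, CohCx.IsRlimVia K t L a := by
  obtain ⟨f, c, hc⟩ := hL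
  refine ⟨fun n => f ≫ Pi.π K n, c, ?_⟩
  rwa [show Pi.lift (fun n => f ≫ Pi.π K n) = f from Pi.hom_ext _ _ fun n => by simp]

/-- Classes which die in every step die. -/
lemma eq_zero_of_injective (hL : CohCx.IsRlimVia K t L a) {U : C} {m : ℤ} (N : ℕ)
    (hlim : CohCx.LimOneIsZero (fun n => CohCx.HDU (K n) (m - 1) U)
      (fun n => Preadditive.rightComp _ ((shiftFunctor _ (m - 1)).map (t n))))
    (hinj : ∀ k : ℕ, Function.Injective
      (Preadditive.rightComp _ ((shiftFunctor _ m).map (CohCx.transition K t N k)) :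
        CohCx.HDU (K (N + k)) m U → CohCx.HDU (K N) m U))
    (x : CohCx.HDU L m U) (hx : x ≫ (shiftFunctor _ m).map (a N) = 0) : x = 0 := by
  refine rlim_unique hL m _ hlim x fun n => ?_
  have hup : ∀ k, x ≫ (shiftFunctor _ m).map (a (N + k)) = 0 := fun k => by
    refine hinj k ?_
    change (x ≫ (shiftFunctor _ m).map (a (N + k))) ≫ (shiftFunctor _ m).map (CohCx.transition K t N k) =
      0 ≫ (shiftFunctor _ m).map (CohCx.transition K t N k)
    rw [Category.assoc, ← Functor.map_comp, transition_comp hL, hx, zero_comp]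
  rcases le_total N n with h | h
  · obtain ⟨k, rfl⟩ := Nat.exists_eq_add_of_le h
    exact hup k
  · obtain ⟨k, rfl⟩ := Nat.exists_eq_add_of_le h
    rw [← transition_comp hL n k, Functor.map_comp, ← Category.assoc, hx, zero_comp]

/-- The sieve on which a section of the cohomology of the limit dying in a step lifts to a class dying there. -/
lemma exists_sieve {V : C} {m : ℤ} (N : ℕ) (s : (CohCx.HD L m).obj.obj (op V))
    (hs : ((homologyFunctor (Sheaf J AddCommGrpCat.{u}) m).map (a N)).hom.app (op V) s = 0) :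
    ∃ T ∈ J V, ∀ ⦃W : C⦄ (g : W ⟶ V), T g → ∃ x : CohCx.HDU L m W,
      secHom L m W x = (CohCx.HD L m).obj.map g.op s ∧ x ≫ (shiftFunctor _ m).map (a N) = 0 := by
  let T : Sieve V :=
    { arrows := fun W g => ∃ x : CohCx.HDU L m W,
        secHom L m W x = (CohCx.HD L m).obj.map g.op s ∧ x ≫ (shiftFunctor _ m).map (a N) = 0
      downward_closed := fun {W W' g} ⟨x, hx, hx'⟩ f => ⟨CohCx.HDUres L m f x, by
        rw [secHom_res, hx, op_comp, Functor.map_comp_apply], by
        refine (Category.assoc _ _ _).trans ?_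
        rw [hx', comp_zero]⟩ }
  refine ⟨T, ?_, fun W g hg => hg⟩
  obtain ⟨S₁, hS₁, h₁⟩ := evm_locally_surjective ((SiteCoh.homAddEquivSec V (CohCx.HD L m)).symm s)
  refine J.transitive hS₁ _ fun W g hg => ?_
  obtain ⟨x, hx⟩ := h₁ g hg
  have hsec : secHom L m W x = (CohCx.HD L m).obj.map g.op s := by
    rw [secHom_apply, hx, SiteCoh.homAddEquivSec_freeSheafMap_comp, AddEquiv.apply_symm_apply]
  have h0 : evm (K := K N) (x ≫ (shiftFunctor _ m).map (a N)) = 0 := by
    apply (SiteCoh.homAddEquivSec W (CohCx.HD (K N) m)).injective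
    rw [map_zero, ← secHom_apply, secHom_comp, hsec, NatTrans.naturality_apply, hs, map_zero]
  obtain ⟨S₃, hS₃, h₃⟩ := evm_locally_injective _ h0
  refine J.superset_covering (fun W' f hf => ?_) hS₃
  refine ⟨CohCx.HDUres L m f x, ?_, (Category.assoc _ _ _).trans (h₃ f hf)⟩
  rw [secHom_res, hsec, op_comp, Functor.map_comp_apply]

/-- Injectivity on sections of cohomology sheaves. -/
theorem injective_app (hL : CohCx.IsRlimVia K t L a) (V : C) (m : ℤ) (nV : ℕ)
    (h : ∀ T ∈ J V, ∃ (ι : Type u) (Y : ι → C) (f : ∀ i, Y i ⟶ V), (∀ i, T.arrows (f i)) ∧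
      Sieve.ofArrows Y f ∈ J V ∧ ∀ i,
        CohCx.LimOneIsZero (fun n => CohCx.HDU (K n) (m - 1) (Y i))
          (fun n => Preadditive.rightComp _ ((shiftFunctor _ (m - 1)).map (t n))) ∧
        ∀ k : ℕ, Function.Injective
          (Preadditive.rightComp _ ((shiftFunctor _ m).map (CohCx.transition K t nV k)) :
            CohCx.HDU (K (nV + k)) m (Y i) → CohCx.HDU (K nV) m (Y i))) :
    Function.Injective (((homologyFunctor (Sheaf J AddCommGrpCat.{u}) m).map (a nV)).hom.app (op V)) := by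
  refine (injective_iff_map_eq_zero _).2 fun s hs => ?_
  obtain ⟨T, hT, hx⟩ := exists_sieve (a := a) nV s hs
  obtain ⟨ι, Y, f, h₁, h₂, h₃⟩ := h T hT
  refine sec_eq_zero _ _ h₂ s fun W g hg => ?_
  obtain ⟨i, b, rfl⟩ := (Sieve.mem_ofArrows_iff (Y := Y) (f := f) g).1 hg
  obtain ⟨x, hx₁, hx₂⟩ := hx (f i) (h₁ i)
  have h0 : x = 0 := eq_zero_of_injective hL nV (h₃ i).1 (h₃ i).2 x hx₂
  rw [h0, map_zero] at hx₁
  rw [op_comp, Functor.map_comp_apply, ← hx₁, map_zero]

section Limit

variable {B : Set C}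
  (hB : ∀ U : C, ∃ (ι : Type u) (Y : ι → C) (f : ∀ i, Y i ⟶ U), Sieve.ofArrows Y f ∈ J U ∧ ∀ i, Y i ∈ B)
  (h1 : ∀ U ∈ B, ∀ (p : ℕ) (q : ℤ) (n : ℕ), Subsingleton (CohSite.HU (CohCx.HD (K n) q) (p + 1) U))
  (h2 : ∀ U ∈ B, ∀ (q : ℤ), CohCx.LimOneIsZero (fun n => (CohCx.HD (K n) q).obj.obj (op U))
    (fun n => (((homologyFunctor (Sheaf J AddCommGrpCat.{u}) q).map (t n)).hom.app (op U)).hom))

include hB h1 h2 in
lemma limOne_hdu {U : C} (hU : U ∈ B) (m : ℤ) :
    CohCx.LimOneIsZero (fun n => CohCx.HDU (K n) m U)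
      (fun n => Preadditive.rightComp _ ((shiftFunctor _ m).map (t n))) :=
  limOne_congr (fun n => secHom (K n) m U)
    (fun n => secHom_bijective hB (K n) (fun V hV p q => h1 V hV p q n) hU m)
    (fun n x => secHom_comp (t n) m U x) (h2 U hU m)

include hB h1 h2 in
/-- A class is zero when its images are, over an acyclic object. -/
lemma hdu_eq_zero (hL : CohCx.IsRlimVia K t L a) {U : C} (hU : U ∈ B) {m : ℤ} (y : CohCx.HDU L m U)
    (hy : ∀ n, evm (K := K n) (y ≫ (shiftFunctor _ m).map (a n)) = 0) : y = 0 :=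
  rlim_unique hL m _ (limOne_hdu hB h1 h2 hU (m - 1)) y fun n =>
    (evm_bijective hB (K n) (fun V hV p q => h1 V hV p q n) hU m).1 ((hy n).trans evm_zero.symm)

/-- The inverse system of cohomology sheaves. -/
noncomputable abbrev hdSeq (K : ℕ → DerivedCategory (Sheaf J AddCommGrpCat.{u})) (t : ∀ n, K (n + 1) ⟶ K n)
    (q : ℤ) : ℕᵒᵖ ⥤ Sheaf J AddCommGrpCat.{u} :=
  CohCx.opSequence (fun n => CohCx.HD (K n) q) (fun n => (homologyFunctor (Sheaf J AddCommGrpCat.{u}) q).map (t n))

/-- The comparison of cohomology with the limit. -/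
noncomputable def toLim (hL : CohCx.IsRlimVia K t L a) (q : ℤ) : CohCx.HD L q ⟶ limit (hdSeq K t q) :=
  limit.lift (hdSeq K t q)
    { pt := CohCx.HD L q
      π := NatTrans.ofOpSequence (fun n => (homologyFunctor (Sheaf J AddCommGrpCat.{u}) q).map (a n)) fun n => by
        rw [Functor.ofOpSequence_map_homOfLE_succ, Functor.const_obj_map]
        erw [Category.id_comp]
        rw [← Functor.map_comp, rlim_compatible hL] }

lemma toLim_π (hL : CohCx.IsRlimVia K t L a) (q : ℤ) (n : ℕ) :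
    toLim hL q ≫ limit.π (hdSeq K t q) (op n) = (homologyFunctor (Sheaf J AddCommGrpCat.{u}) q).map (a n) :=
  limit.lift_π _ _

include hB h1 h2 in
theorem isIso_toLim (hL : CohCx.IsRlimVia K t L a) (q : ℤ) : IsIso (toLim hL q) := by
  have hmono : Mono (toLim hL q) := by
    refine (abGen J).mono_of_sep _ fun U (s : CohCx.freeSheaf J U ⟶ CohCx.HD L q) hs => ?_
    obtain ⟨S, hS, hx⟩ := evm_locally_surjective s
    obtain ⟨ι, Y, f, h₁, h₂, h₃⟩ := exists_refinement B hB S hS
    refine (abGen J).sep_ofArrows _ Y f h₂ fun i => ?_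
    change CohCx.freeSheafMap J (f i) ≫ s = 0
    obtain ⟨x, hx'⟩ := hx (f i) (h₁ i)
    have h0 : x = 0 := hdu_eq_zero hB h1 h2 hL (h₃ i) x fun n => by
      rw [evm_comp, hx', ← toLim_π hL q n, Category.assoc, ← Category.assoc s, hs, zero_comp, comp_zero]
    rw [← hx', h0, evm_zero]
  have hepi : Epi (toLim hL q) := by
    refine (abGen J).epi_of_sep _ fun U (s : CohCx.freeSheaf J U ⟶ limit (hdSeq K t q)) Q g hg => ?_
    obtain ⟨ι, Y, f, h₂, h₃⟩ := hB U
    refine (abGen J).sep_ofArrows _ Y f h₂ fun i => ?_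
    have hb := fun n => evm_bijective hB (K n) (fun V hV p q => h1 V hV p q n) (h₃ i) q
    choose x hx using fun n => (hb n).2 (CohCx.freeSheafMap J (f i) ≫ s ≫ limit.π (hdSeq K t q) (op n))
    replace hx : ∀ n, evm (x n) = CohCx.freeSheafMap J (f i) ≫ s ≫ limit.π (hdSeq K t q) (op n) := hx
    obtain ⟨y, hy⟩ := rlim_lift hL q _ x fun n => (hb n).1 (by
      change evm (K := K n) _ = evm (x n)
      rw [evm_comp, hx (n + 1), hx n, Category.assoc, Category.assoc]
      refine congrArg (fun e => CohCx.freeSheafMap J (f i) ≫ s ≫ e) ?_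
      have hw := limit.w (hdSeq K t q) (homOfLE (Nat.le_add_right n 1)).op
      have hm : (hdSeq K t q).map (homOfLE (Nat.le_add_right n 1)).op =
          (homologyFunctor (Sheaf J AddCommGrpCat.{u}) q).map (t n) := Functor.ofOpSequence_map_homOfLE_succ _ n
      rw [hm] at hw
      exact hw)
    have hy' : evm y ≫ toLim hL q = CohCx.freeSheafMap J (f i) ≫ s := by
      refine limit.hom_ext fun n => ?_
      obtain ⟨n⟩ := n
      rw [Category.assoc, toLim_π, ← evm_comp, hy, hx, Category.assoc]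
    change CohCx.freeSheafMap J (f i) ≫ s ≫ g = 0
    rw [← Category.assoc, ← hy', Category.assoc, hg, comp_zero]
  exact isIso_of_mono_of_epi _

include hB h1 h2 in
theorem nonempty_hd_iso_limit (hL : DCoh.IsRlim K t L) (q : ℤ) :
    Nonempty (CohCx.HD L q ≅ limit (hdSeq K t q)) := by
  obtain ⟨a, ha⟩ := exists_isRlimVia hL
  have := isIso_toLim hB h1 h2 ha q
  exact ⟨asIso (toLim ha q)⟩

end Limit

/-- Being a derived limit passes along isomorphisms. -/
lemma isRlim_of_iso (hL : DCoh.IsRlim K t L) {L' : DerivedCategory (Sheaf J AddCommGrpCat.{u})} (e : L ≅ L') :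
    DCoh.IsRlim K t L' := by
  obtain ⟨f, c, hc⟩ := hL
  refine ⟨e.inv ≫ f, c ≫ e.hom⟦(1 : ℤ)⟧', isomorphic_distinguished _ hc _
    (Triangle.isoMk _ _ e.symm (Iso.refl _) (Iso.refl _) ?_ ?_ ?_)⟩
  · exact Category.comp_id _
  · exact (Category.comp_id _).trans (Category.id_comp _).symm
  · change (c ≫ e.hom⟦(1 : ℤ)⟧') ≫ e.inv⟦(1 : ℤ)⟧' = 𝟙 _ ≫ c
    rw [Category.assoc, ← Functor.map_comp, Iso.hom_inv_id, CategoryTheory.Functor.map_id, Category.comp_id,
      Category.id_comp]

end Groth.Agent.Rlim44
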