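import Groth.Agent.Rlim44.TruncAb
import Groth.Agent.Mod48.CmpAdj
import Groth.Agent.Mod48.DerivedProd
import Groth.Agent.Mod48.ModVanish

/-!
Cohomology of complexes of abelian sheaves as sections of cohomology sheaves over acyclic objects.
-/

set_option autoImplicit false
set_option backward.isDefEq.respectTransparency false
set_option backward.isDefEq.respectTransparency.types false

universe u

open CategoryTheory CategoryTheory.Limits CategoryTheory.Pretriangulated DerivedCategory Opposite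
open Groth.Agent.Mod48 Groth.Agent.Mod48.LocGen

namespace Groth.Agent.Rlim44

variable {C : Type u} [SmallCategory C] {J : GrothendieckTopology C}
  [HasDerivedCategory.{u} (Sheaf J AddCommGrpCat.{u})]

/-- Cohomology in degree zero of a shift. -/
noncomputable def hdIso (K : (DerivedCategory (Sheaf J AddCommGrpCat.{u}))) (m : ℤ) :
    (homologyFunctor (Sheaf J AddCommGrpCat.{u}) 0).obj ((shiftFunctor (DerivedCategory (Sheaf J AddCommGrpCat.{u})) m).obj K) ≅ CohCx.HD K m :=
  ((homologyFunctor (Sheaf J AddCommGrpCat.{u}) 0).shiftIso m 0 m (add_zero m)).app K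

/-- The section of the cohomology sheaf attached to a class. -/
noncomputable def evm {U : C} {K : (DerivedCategory (Sheaf J AddCommGrpCat.{u}))} {m : ℤ} (x : CohCx.HDU K m U) : CohCx.freeSheaf J U ⟶ CohCx.HD K m :=
  ev (X := CohCx.freeSheaf J U) (m := 0) x ≫ (hdIso K m).hom

lemma evm_comp {U : C} {K K' : (DerivedCategory (Sheaf J AddCommGrpCat.{u}))} {m : ℤ} (x : CohCx.HDU K m U) (f : K ⟶ K') :
    evm (K := K') (x ≫ (shiftFunctor (DerivedCategory (Sheaf J AddCommGrpCat.{u})) m).map f) =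
      evm x ≫ (homologyFunctor (Sheaf J AddCommGrpCat.{u}) m).map f := by
  rw [evm, evm, ev_comp, Category.assoc, Category.assoc]
  exact congrArg (_ ≫ ·)
    (((homologyFunctor (Sheaf J AddCommGrpCat.{u}) 0).shiftIso m 0 m (add_zero m)).hom.naturality f)

lemma evm_res {U V : C} (g : V ⟶ U) {K : (DerivedCategory (Sheaf J AddCommGrpCat.{u}))} {m : ℤ} (x : CohCx.HDU K m U) :
    evm (CohCx.HDUres K m g x) = CohCx.freeSheafMap J g ≫ evm x := by
  rw [evm, evm, ← Category.assoc, ← ev_precomp]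
  rfl

lemma evm_zero {U : C} {K : (DerivedCategory (Sheaf J AddCommGrpCat.{u}))} {m : ℤ} : evm (0 : CohCx.HDU K m U) = 0 := by
  rw [evm, ev, Functor.map_zero, comp_zero, zero_comp]

lemma evm_locally_surjective {U : C} {K : (DerivedCategory (Sheaf J AddCommGrpCat.{u}))} {m : ℤ} (a : CohCx.freeSheaf J U ⟶ CohCx.HD K m) :
    ∃ S ∈ J U, ∀ ⦃V : C⦄ (g : V ⟶ U), S g → ∃ x : CohCx.HDU K m V, evm x = CohCx.freeSheafMap J g ≫ a := by
  obtain ⟨S, hS, h⟩ := (abGen J).ev_locally_surjective (a ≫ (hdIso K m).inv)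
  refine ⟨S, hS, fun V g hg => ?_⟩
  obtain ⟨x, hx⟩ := h g hg
  refine ⟨x, ?_⟩
  change ev x ≫ (hdIso K m).hom = _
  rw [hx]
  exact (Category.assoc _ _ _).trans
    (congrArg (_ ≫ ·) ((Category.assoc _ _ _).trans ((congrArg (a ≫ ·) (Iso.inv_hom_id _)).trans (Category.comp_id a))))

lemma evm_locally_injective {U : C} {K : (DerivedCategory (Sheaf J AddCommGrpCat.{u}))} {m : ℤ} (x : CohCx.HDU K m U) (hx : evm x = 0) :
    ∃ S ∈ J U, ∀ ⦃V : C⦄ (g : V ⟶ U), S g → CohCx.HDUres K m g x = 0 :=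
  (abGen J).ev_locally_injective (K := (shiftFunctor (DerivedCategory (Sheaf J AddCommGrpCat.{u})) m).obj K) x
    ((cancel_mono (hdIso K m).hom).1 (hx.trans zero_comp.symm))

/-- In degree zero, maps out of an object into a complex concentrated in nonnegative degrees are maps into the
zeroth cohomology object. -/
lemma ev_bijective_of_isGE (X : Sheaf J AddCommGrpCat.{u}) (Z : (DerivedCategory (Sheaf J AddCommGrpCat.{u}))) (hZ : TStructure.t.IsGE Z 0) :
    Function.Bijective fun x : Pd X 0 ⟶ Z => ev x := by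
  let t : Triangulated.TStructure (DerivedCategory (Sheaf J AddCommGrpCat.{u})) := TStructure.t
  have hT := t.triangleLTGE_distinguished 1 Z
  let W := (t.truncLT 1).obj Z
  let ι : W ⟶ Z := (t.truncLTι 1).app Z
  have hW₁ : t.IsLE W 0 := t.isLE_truncLT_obj Z 1 0 (by omega)
  have hW₂ : t.IsGE W 0 := inferInstance
  have hPd : t.IsLE (Pd X 0) 0 := inferInstanceAs (t.IsLE ((singleFunctor _ 0).obj X) 0)
  obtain ⟨M, ⟨eW⟩⟩ := exists_iso_singleFunctor_obj_of_isGE_of_isLE W 0
  have hι : Function.Bijective fun x : Pd X 0 ⟶ W => x ≫ ι := by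
    constructor
    · intro x x' h
      rw [← sub_eq_zero]
      obtain ⟨g, hg⟩ := Triangle.coyoneda_exact₂ _ (inv_rot_of_distTriang _ hT) (x - x') (by
        change (x - x') ≫ ι = 0
        rw [Preadditive.sub_comp, sub_eq_zero]
        exact h)
      have : g = 0 := t.zero_of_isLE_of_isGE _ 0 2 (by omega) hPd
        (t.isGE_shift ((t.truncGE 1).obj Z) 1 (-1) 2 (by omega))
      rw [hg, this]
      exact zero_comp
    · intro y
      obtain ⟨x, hx⟩ := Triangle.coyoneda_exact₂ _ hT y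
        (t.zero_of_isLE_of_isGE _ 0 1 (by omega) hPd inferInstance)
      exact ⟨x, hx.symm⟩
  have hevW : Function.Bijective fun x : Pd X 0 ⟶ (singleFunctor _ 0).obj M => ev x := by
    have h1 : IsIso (ev (X := M) (m := 0) (𝟙 (Pd M 0))) := by
      rw [ev, CategoryTheory.Functor.map_id]
      exact IsIso.comp_isIso' (IsIso.comp_isIso' inferInstance inferInstance) (IsIso.id _)
    have hs : ∀ r : X ⟶ M, ev (Pm r 0) = r ≫ ev (X := M) (m := 0) (𝟙 (Pd M 0)) := fun r => by
      rw [← ev_precomp, Category.comp_id]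
    constructor
    · intro x x' h
      obtain ⟨r, rfl⟩ := (singleFunctor _ 0).map_surjective x
      obtain ⟨r', rfl⟩ := (singleFunctor _ 0).map_surjective x'
      have h' : ev (Pm r 0) = ev (Pm r' 0) := h
      rw [hs, hs, cancel_mono] at h'
      rw [h']
    · intro b
      refine ⟨Pm (b ≫ inv (ev (X := M) (m := 0) (𝟙 (Pd M 0)))) 0, (hs _).trans ?_⟩
      rw [Category.assoc, IsIso.inv_hom_id, Category.comp_id]
  have := isIso_homology_truncLTι Z 1 0 (by omega)
  have hev : ∀ x : Pd X 0 ⟶ W, ev (x ≫ ι) = ev (x ≫ eW.hom) ≫ (homologyFunctor _ 0).map eW.inv ≫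
      (homologyFunctor _ 0).map ι := fun x => by
    rw [← Category.assoc, ← ev_comp, Category.assoc, Iso.hom_inv_id, Category.comp_id, ev_comp]
  refine ⟨fun y y' h => ?_, fun b => ?_⟩
  · obtain ⟨x, rfl⟩ := hι.2 y
    obtain ⟨x', rfl⟩ := hι.2 y'
    change ev (x ≫ ι) = ev (x' ≫ ι) at h
    rw [hev, hev] at h
    have h' := hevW.1 ((cancel_mono ((homologyFunctor _ 0).map eW.inv ≫ (homologyFunctor _ 0).map ι)).1 h)
    exact congrArg (· ≫ ι) ((cancel_mono eW.hom).1 h')
  · obtain ⟨z, hz⟩ := hevW.2 (b ≫ inv ((homologyFunctor _ 0).map eW.inv ≫ (homologyFunctor _ 0).map ι))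
    change ev z = _ at hz
    refine ⟨(z ≫ eW.inv) ≫ ι, ?_⟩
    change ev ((z ≫ eW.inv) ≫ ι) = b
    rw [hev, Category.assoc z, Iso.inv_hom_id, Category.comp_id, hz, Category.assoc, IsIso.inv_hom_id,
      Category.comp_id]

variable {B : Set C}
  (hB : ∀ U : C, ∃ (ι : Type u) (Y : ι → C) (f : ∀ i, Y i ⟶ U), Sieve.ofArrows Y f ∈ J U ∧ ∀ i, Y i ∈ B)

include hB in
theorem ev_bijective (E : (DerivedCategory (Sheaf J AddCommGrpCat.{u})))
    (h : ∀ U ∈ B, ∀ (p : ℕ) (q : ℤ), Subsingleton (CohSite.HU (CohCx.HD E q) (p + 1) U))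
    {U : C} (hU : U ∈ B) : Function.Bijective fun x : Pd (CohCx.freeSheaf J U) 0 ⟶ E => ev x := by
  have : HasProduct (CohCx.truncTower E) := hasProduct_of_enoughKInj Mod48.enoughKInj _
  have hvan : ∀ V ∈ B, ∀ (k : ℕ) (q : ℤ), 0 < k → VanishAt (CohCx.freeSheaf J V) (CohCx.HD E q) (k : ℤ) := by
    intro V hV k q hk
    obtain ⟨p, rfl⟩ : ∃ p, k = p + 1 := ⟨k - 1, by omega⟩
    exact vanishAt_of_subsingleton_ext _ (h V hV p q)
  have hR : CohCx.IsRlimVia (CohCx.truncTower E) (CohCx.truncTowerMap E) E (CohCx.toTruncTower E) :=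
    isRlimVia_truncTower_site E B hB fun V _ => ⟨fun _ => 0, fun T hT => by
      obtain ⟨ι, Y, g, h₁, h₂, h₃⟩ := Mod48.exists_refinement B hB T hT
      refine ⟨ι, Y, g, h₁, h₂, fun i m k hk => ?_⟩
      change (0 : ℤ) < k at hk
      obtain ⟨p, rfl⟩ : ∃ p, k = p + 1 := ⟨k - 1, by omega⟩
      exact h _ (h₃ i) p _⟩
  have b₁ := rlim_truncTower_bijective (X := CohCx.freeSheaf J U) E hR 0 1 (fun n hn q k hq hk₁ hk₂ => by
    obtain ⟨k', rfl⟩ := Int.eq_ofNat_of_zero_le (show 0 ≤ k by omega)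
    exact hvan U hU k' q (by omega)) 1 le_rfl
  have b₀ := truncTower_postcomp_bijective (X := CohCx.freeSheaf J U) E 0 (-1) (by simp) 0
    (hvan U hU 1 (-1) one_pos) (hvan U hU 2 (-1) two_pos)
  have hπ : CohCx.toTruncTower E 1 ≫ CohCx.truncTowerMap E 0 = CohCx.toTruncTower E 0 :=
    TStructure.t.π_natTransTruncGEOfLE_app _ _ _ E
  have hge : TStructure.t.IsGE (CohCx.truncTower E 0) 0 :=
    TStructure.t.isGE_of_ge _ 0 (-((0 : ℕ) : ℤ)) (by omega)
  have hb := (ev_bijective_of_isGE (CohCx.freeSheaf J U) _ hge).comp (b₀.comp b₁)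
  have hiso : IsIso ((homologyFunctor _ 0).map (CohCx.toTruncTower E 0)) :=
    isIso_homology_truncGEπ E (-((0 : ℕ) : ℤ)) 0 (by omega)
  have key : ∀ x : Pd (CohCx.freeSheaf J U) 0 ⟶ E,
      ev ((x ≫ CohCx.toTruncTower E 1) ≫ CohCx.truncTowerMap E 0) =
        ev x ≫ (homologyFunctor _ 0).map (CohCx.toTruncTower E 0) := fun x => by
    rw [Category.assoc, hπ, ev_comp]
  refine ⟨fun x x' hxx' => hb.1 ?_, fun b => ?_⟩
  · change ev ((x ≫ CohCx.toTruncTower E 1) ≫ CohCx.truncTowerMap E 0) =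
      ev ((x' ≫ CohCx.toTruncTower E 1) ≫ CohCx.truncTowerMap E 0)
    rw [key, key]
    exact congrArg (· ≫ _) hxx'
  · obtain ⟨x, hx⟩ := hb.2 (b ≫ (homologyFunctor _ 0).map (CohCx.toTruncTower E 0))
    change ev ((x ≫ CohCx.toTruncTower E 1) ≫ CohCx.truncTowerMap E 0) = _ at hx
    rw [key, cancel_mono] at hx
    exact ⟨x, hx⟩

omit [HasDerivedCategory.{u} (Sheaf J AddCommGrpCat.{u})] in
lemma subsingleton_HU_of_iso {F G : Sheaf J AddCommGrpCat.{u}} (e : F ≅ G) (p : ℕ) (U : C)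
    (h : Subsingleton (CohSite.HU G p U)) : Subsingleton (CohSite.HU F p U) :=
  (((Sheaf.cohomologyPresheafFunctor J p).mapIso e).app (op U)).addCommGroupIsoToAddEquiv.toEquiv.subsingleton

include hB in
/-- Over an object on which the cohomology sheaves are acyclic, classes are sections of the cohomology sheaf. -/
theorem evm_bijective (K : (DerivedCategory (Sheaf J AddCommGrpCat.{u})))
    (h : ∀ U ∈ B, ∀ (p : ℕ) (q : ℤ), Subsingleton (CohSite.HU (CohCx.HD K q) (p + 1) U))
    {U : C} (hU : U ∈ B) (m : ℤ) : Function.Bijective fun x : CohCx.HDU K m U => evm x := by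
  have hb := ev_bijective hB ((shiftFunctor (DerivedCategory (Sheaf J AddCommGrpCat.{u})) m).obj K) (fun V hV p q => subsingleton_HU_of_iso
    (((homologyFunctor (Sheaf J AddCommGrpCat.{u}) 0).shiftIso m q (m + q) rfl).app K) _ V (h V hV p (m + q))) hU
  exact ⟨fun x x' hxx' => hb.1 ((cancel_mono (hdIso K m).hom).1 hxx'), fun b => by
    obtain ⟨x, hx⟩ := hb.2 (b ≫ (hdIso K m).inv)
    change ev x = _ at hx
    refine ⟨x, ?_⟩
    change ev x ≫ (hdIso K m).hom = b
    rw [hx, Category.assoc, Iso.inv_hom_id, Category.comp_id]⟩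

/-- Classes as sections, additively. -/
noncomputable def secHom (K : (DerivedCategory (Sheaf J AddCommGrpCat.{u}))) (m : ℤ) (U : C) : CohCx.HDU K m U →+ (CohCx.HD K m).obj.obj (op U) :=
  AddMonoidHom.mk' (fun x => SiteCoh.homAddEquivSec U _ (evm x)) fun x y => by
    rw [← map_add]
    refine congrArg _ ?_
    rw [evm, evm, evm, ev, ev, ev, Functor.map_add, Preadditive.comp_add, Preadditive.add_comp]

lemma secHom_apply (K : (DerivedCategory (Sheaf J AddCommGrpCat.{u}))) (m : ℤ) (U : C) (x : CohCx.HDU K m U) :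
    secHom K m U x = SiteCoh.homAddEquivSec U _ (evm x) :=
  rfl

include hB in
lemma secHom_bijective (K : (DerivedCategory (Sheaf J AddCommGrpCat.{u})))
    (h : ∀ U ∈ B, ∀ (p : ℕ) (q : ℤ), Subsingleton (CohSite.HU (CohCx.HD K q) (p + 1) U))
    {U : C} (hU : U ∈ B) (m : ℤ) : Function.Bijective (secHom K m U) :=
  (SiteCoh.homAddEquivSec U (CohCx.HD K m)).bijective.comp (evm_bijective hB K h hU m)

lemma secHom_comp {K K' : (DerivedCategory (Sheaf J AddCommGrpCat.{u}))} (f : K ⟶ K') (m : ℤ) (U : C) (x : CohCx.HDU K m U) :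
    secHom K' m U (x ≫ (shiftFunctor (DerivedCategory (Sheaf J AddCommGrpCat.{u})) m).map f) =
      ((homologyFunctor (Sheaf J AddCommGrpCat.{u}) m).map f).hom.app (op U) (secHom K m U x) := by
  rw [secHom_apply, secHom_apply, evm_comp, SiteCoh.homAddEquivSec_comp]

lemma secHom_res {K : (DerivedCategory (Sheaf J AddCommGrpCat.{u}))} {m : ℤ} {U V : C} (g : V ⟶ U) (x : CohCx.HDU K m U) :
    secHom K m V (CohCx.HDUres K m g x) = (CohCx.HD K m).obj.map g.op (secHom K m U x) := by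
  rw [secHom_apply, secHom_apply, evm_res, SiteCoh.homAddEquivSec_freeSheafMap_comp]

end Groth.Agent.Rlim44
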