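import Groth.Agent.Rlim44.TruncPoints
import Groth.Agent.Rlim44.AbVanish
import Groth.Prelude.Def_CohCx

/-!
Abelian sheaves: derived limits of truncation towers.
-/

set_option autoImplicit false

universe u

open CategoryTheory CategoryTheory.Limits TopologicalSpace DerivedCategory

namespace Groth.Agent.Rlim44

open Groth.Agent.Mod48

theorem isRlimVia_truncTower_top {X : TopCat.{u}}
    [HasDerivedCategory.{u} (CohTop.Ab X)] (E : DerivedCategory (CohTop.Ab X))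
    [HasProduct (CohCx.truncTower E)]
    (h : ∀ x : X, ∀ m : ℤ, ∃ N : ℕ, ∀ V : Opens X, x ∈ V → ∃ U : Opens X, x ∈ U ∧ U ≤ V ∧
      ∀ n, N ≤ n → ∀ (q : ℤ) (k : ℕ), q + 1 = -(n : ℤ) → m + n ≤ (k : ℤ) → (k : ℤ) ≤ m + n + 2 →
        Subsingleton (CohTop.HU (CohCx.HD E q) k U)) :
    CohCx.IsRlimVia (CohCx.truncTower E) (CohCx.truncTowerMap E) E (CohCx.toTruncTower E) := by
  refine isRlimVia_truncTower_points (abGen (Opens.grothendieckTopology X)) E fun x m => ?_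
  obtain ⟨N, hN⟩ := h x m
  refine ⟨N + (-m).toNat, fun V hV => ?_⟩
  obtain ⟨U, hxU, hUV, hU⟩ := hN V hV
  refine ⟨U, hxU, hUV, fun n hn q k hq hk₁ hk₂ => ?_⟩
  obtain ⟨k', rfl⟩ := Int.eq_ofNat_of_zero_le (show 0 ≤ k by omega)
  exact vanishAt_of_subsingleton_ext k' (hU n (by omega) q k' hq hk₁ hk₂)

theorem isRlimVia_truncTower_top_of_function {X : TopCat.{u}}
    [HasDerivedCategory.{u} (CohTop.Ab X)] (E : DerivedCategory (CohTop.Ab X))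
    [HasProduct (CohCx.truncTower E)]
    (h : ∀ x : X, ∃ p : ℤ → ℤ, ∀ V : Opens X, x ∈ V → ∃ U : Opens X, x ∈ U ∧ U ≤ V ∧
      ∀ (m : ℤ) (k : ℕ), p m < k → Subsingleton (CohTop.HU (CohCx.HD E (m - k)) k U)) :
    CohCx.IsRlimVia (CohCx.truncTower E) (CohCx.truncTowerMap E) E (CohCx.toTruncTower E) := by
  refine isRlimVia_truncTower_top E fun x m => ?_
  obtain ⟨p, hp⟩ := h x
  refine ⟨(max (p (m - 1)) (max (p m) (p (m + 1))) - m).toNat + 1, fun V hV => ?_⟩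
  obtain ⟨U, hxU, hUV, hU⟩ := hp V hV
  refine ⟨U, hxU, hUV, fun n hn q k hq hk₁ hk₂ => ?_⟩
  obtain ⟨M, rfl⟩ : ∃ M, q = M - (k : ℤ) := ⟨q + k, by omega⟩
  refine hU M k ?_
  obtain rfl | rfl | rfl : M = m - 1 ∨ M = m ∨ M = m + 1 := by omega
  all_goals omega

theorem isRlimVia_truncTower_top_of_bound {X : TopCat.{u}}
    [HasDerivedCategory.{u} (CohTop.Ab X)] (E : DerivedCategory (CohTop.Ab X))
    [HasProduct (CohCx.truncTower E)]
    (h : ∀ x : X, ∃ d : ℕ, ∀ V : Opens X, x ∈ V → ∃ U : Opens X, x ∈ U ∧ U ≤ V ∧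
      ∀ (p : ℕ) (q : ℤ), d < p → q < 0 → Subsingleton (CohTop.HU (CohCx.HD E q) p U)) :
    CohCx.IsRlimVia (CohCx.truncTower E) (CohCx.truncTowerMap E) E (CohCx.toTruncTower E) := by
  refine isRlimVia_truncTower_top E fun x m => ?_
  obtain ⟨d, hd⟩ := h x
  refine ⟨((d : ℤ) - m).toNat + 1, fun V hV => ?_⟩
  obtain ⟨U, hxU, hUV, hU⟩ := hd V hV
  exact ⟨U, hxU, hUV, fun n hn q k hq hk₁ hk₂ => hU k q (by omega) (by omega)⟩

theorem isRlimVia_truncTower_site {C : Type u} [SmallCategory C]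
    {J : GrothendieckTopology C} [HasDerivedCategory.{u} (Sheaf J AddCommGrpCat.{u})]
    (E : DerivedCategory (Sheaf J AddCommGrpCat.{u})) [HasProduct (CohCx.truncTower E)] (B : Set C)
    (hB : ∀ U : C, ∃ (ι : Type u) (Y : ι → C) (f : ∀ i, Y i ⟶ U), Sieve.ofArrows Y f ∈ J U ∧ ∀ i, Y i ∈ B)
    (h : ∀ V ∈ B, ∃ p : ℤ → ℤ, ∀ T ∈ J V, ∃ (ι : Type u) (Y : ι → C) (f : ∀ i, Y i ⟶ V),
      (∀ i, T.arrows (f i)) ∧ Sieve.ofArrows Y f ∈ J V ∧
      ∀ (i : ι) (m : ℤ) (k : ℕ), p m < k → Subsingleton (CohSite.HU (CohCx.HD E (m - k)) k (Y i))) :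
    CohCx.IsRlimVia (CohCx.truncTower E) (CohCx.truncTowerMap E) E (CohCx.toTruncTower E) := by
  refine LocGen.isRlimVia_truncTower (abGen J) E B hB fun V hV m => ?_
  obtain ⟨p, hp⟩ := h V hV
  refine ⟨(max (p (m - 1)) (max (p m) (p (m + 1))) - m).toNat + (-m).toNat + 1, fun T hT => ?_⟩
  obtain ⟨ι, Y, g, h1, h2, h3⟩ := hp T hT
  refine ⟨ι, Y, g, h1, h2, fun i n hn q k hq hk₁ hk₂ => ?_⟩
  obtain ⟨k', rfl⟩ := Int.eq_ofNat_of_zero_le (show 0 ≤ k by omega)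
  obtain ⟨M, rfl⟩ : ∃ M, q = M - (k' : ℤ) := ⟨q + k', by omega⟩
  refine vanishAt_of_subsingleton_ext k' (h3 i M k' ?_)
  obtain rfl | rfl | rfl : M = m - 1 ∨ M = m ∨ M = m + 1 := by omega
  all_goals omega

end Groth.Agent.Rlim44
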