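import Groth.Agent.Mod48.TruncTower
import Mathlib.Topology.Sheaves.Sheaf
import Mathlib.Topology.Category.TopCat.Basic

/-!
A complex of sheaves on a space is the derived limit of its truncations under vanishing near every point.
-/

set_option autoImplicit false

universe w u u₁ v₁

open CategoryTheory CategoryTheory.Limits CategoryTheory.Pretriangulated DerivedCategory TopologicalSpace
open Groth.Agent.Mod48 Groth.Agent.Mod48.LocGen

namespace Groth.Agent.Rlim44

variable {X : TopCat.{u}} {A : Type (u + 1)} [Category.{u} A] [Abelian A]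

/-- The covering sieve criterion at points. -/
lemma mem_of_points {U : Opens X} (S : Sieve U)
    (h : ∀ x ∈ U, ∃ (V : Opens X) (f : V ⟶ U), S f ∧ x ∈ V) : S ∈ Opens.grothendieckTopology X U :=
  h

/-- A morphism is sent to an isomorphism when, near every point, it factors as a locally bijective map
followed by a map sent to an isomorphism. -/
theorem isIso_map_points {G : LocGen (Opens.grothendieckTopology X) A} {E : Type u₁} [Category.{v₁} E]
    [HasZeroMorphisms E] {H : E ⥤ A} [H.PreservesZeroMorphisms] (Φ : G.LocPres H) {L Z : E} (b : L ⟶ Z)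
    (hloc : ∀ x : X, ∃ (Z' : E) (a : L ⟶ Z') (τ : Z' ⟶ Z), a ≫ τ = b ∧ IsIso (H.map τ) ∧
      ∀ V : Opens X, x ∈ V → ∃ (W : Opens X) (_ : W ⟶ V), x ∈ W ∧
        Function.Bijective fun y : Φ.T W ⟶ L => y ≫ a) :
    IsIso (H.map b) := by
  have hmono : Mono (H.map b) := by
    refine G.mono_of_sep _ fun U s hs => ?_
    obtain ⟨S₁, hS₁, hx₁⟩ := Φ.surj s
    let S : Sieve U :=
      { arrows := fun V g => G.r g ≫ s = 0
        downward_closed := fun {V W g} hg f => by rw [G.r_comp, Category.assoc, hg, comp_zero] }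
    refine G.sep s S (mem_of_points S fun p hp => ?_) fun V g hg => hg
    obtain ⟨V₁, g₁, hg₁, hp₁⟩ := hS₁ p hp
    obtain ⟨y, hy⟩ := hx₁ g₁ hg₁
    obtain ⟨Z', a, τ, hfac, hτ, hT⟩ := hloc p
    have hsec : Φ.sec (y ≫ a) = 0 := by
      rw [Φ.sec_comp, hy, ← cancel_mono (H.map τ), zero_comp]
      simp only [Category.assoc]
      rw [← H.map_comp, hfac, hs, comp_zero]
    obtain ⟨S₃, hS₃, hz₃⟩ := Φ.inj _ hsec
    obtain ⟨V₃, g₃, hg₃, hp₃⟩ := hS₃ p hp₁
    obtain ⟨W, h, hpW, hbij⟩ := hT V₃ hp₃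
    refine ⟨W, (h ≫ g₃) ≫ g₁, ?_, hpW⟩
    have hzero : Φ.res (h ≫ g₃) ≫ y = 0 := by
      refine hbij.1 ?_
      change (Φ.res (h ≫ g₃) ≫ y) ≫ a = 0 ≫ a
      rw [zero_comp, Category.assoc]
      exact hz₃ (h ≫ g₃) (S₃.downward_closed hg₃ h)
    have h' := congrArg Φ.sec hzero
    rw [Φ.sec_res, hy, Φ.sec_zero] at h'
    change G.r ((h ≫ g₃) ≫ g₁) ≫ s = 0
    rw [G.r_comp, Category.assoc]
    exact h'
  have hepi : Epi (H.map b) := by
    refine G.epi_of_sep _ fun U s Q q hq => ?_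
    let S : Sieve U :=
      { arrows := fun V g => G.r g ≫ s ≫ q = 0
        downward_closed := fun {V W g} hg f => by rw [G.r_comp, Category.assoc, hg, comp_zero] }
    refine G.sep (s ≫ q) S (mem_of_points S fun p hp => ?_) fun V g hg => hg
    obtain ⟨Z', a, τ, hfac, hτ, hT⟩ := hloc p
    obtain ⟨S₁, hS₁, hx₁⟩ := Φ.surj (s ≫ inv (H.map τ))
    obtain ⟨V₁, g₁, hg₁, hp₁⟩ := hS₁ p hp
    obtain ⟨W, h, hpW, hbij⟩ := hT V₁ hp₁
    obtain ⟨y, hy⟩ := hx₁ (h ≫ g₁) (S₁.downward_closed hg₁ h)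
    obtain ⟨z, hz⟩ := hbij.2 y
    change z ≫ a = y at hz
    refine ⟨W, h ≫ g₁, ?_, hpW⟩
    have h' : G.r (h ≫ g₁) ≫ s = Φ.sec z ≫ H.map b := by
      rw [← hfac, H.map_comp, ← Category.assoc (Φ.sec z), ← Φ.sec_comp, hz, hy]
      simp only [Category.assoc, IsIso.inv_hom_id, Category.comp_id]
    change G.r (h ≫ g₁) ≫ s ≫ q = 0
    rw [← Category.assoc, h', Category.assoc, hq, comp_zero]
  exact isIso_of_mono_of_epi _

variable [HasDerivedCategory.{w} A]

/-- A complex on a space is the derived limit of its truncations when the high degree cohomology of its very negative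
cohomology objects vanishes on a basis. -/
theorem isRlimVia_truncTower_points (G : LocGen (Opens.grothendieckTopology X) A) (E : DerivedCategory A) [HasProduct (CohCx.truncTower E)] 
    (hv : ∀ x : X, ∀ m : ℤ, ∃ N : ℕ, ∀ V : Opens X, x ∈ V → ∃ U : Opens X, x ∈ U ∧ U ≤ V ∧
      ∀ n, N ≤ n → ∀ q k : ℤ, q + 1 = -(n : ℤ) → m + n ≤ k → k ≤ m + n + 2 →
        VanishAt (G.P U) ((homologyFunctor A q).obj E) k) :
    CohCx.IsRlimVia (CohCx.truncTower E) (CohCx.truncTowerMap E) E (CohCx.toTruncTower E) := by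
  let K := CohCx.truncTower E
  let tr := CohCx.truncTowerMap E
  let π := CohCx.toTruncTower E
  have hπ : ∀ n, π (n + 1) ≫ tr n = π n := fun n => TStructure.t.π_natTransTruncGEOfLE_app _ _ _ E
  obtain ⟨L, l, c, hT⟩ := distinguished_cocone_triangle₁ (Pi.lift fun n => Pi.π K n - Pi.π K (n + 1) ≫ tr n)
  let a : ∀ n, L ⟶ K n := fun n => l ≫ Pi.π K n
  have hl : Pi.lift a = l := Pi.hom_ext _ _ fun n => by simp [a]
  have hL : CohCx.IsRlimVia K tr L a := ⟨c, by rw [hl]; exact hT⟩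
  have hcomp := rlim_compatible hL
  obtain ⟨φ, hφ⟩ : ∃ φ : E ⟶ L, Pi.lift π = φ ≫ l := Triangle.coyoneda_exact₂ _ hT (Pi.lift π) (by
    change Pi.lift π ≫ Pi.lift (fun n => Pi.π K n - Pi.π K (n + 1) ≫ tr n) = 0
    refine Pi.hom_ext _ _ fun n => ?_
    rw [Category.assoc, Pi.lift_π, Preadditive.comp_sub, Pi.lift_π, Pi.lift_π_assoc, zero_comp, hπ, sub_self])
  have hφn : ∀ n, φ ≫ a n = π n := fun n => by
    have h : Pi.lift π ≫ Pi.π K n = (φ ≫ l) ≫ Pi.π K n := congrArg (· ≫ Pi.π K n) hφ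
    rw [Pi.lift_π, Category.assoc] at h
    exact h.symm
  have hfac : ∀ n n', n ≤ n' → ∃ τ : K n' ⟶ K n, a n' ≫ τ = a n ∧ π n' ≫ τ = π n := by
    intro n n' h
    induction n', h using Nat.le_induction with
    | base => exact ⟨𝟙 _, Category.comp_id _, Category.comp_id _⟩
    | succ k _ ih =>
      obtain ⟨τ, h₁, h₂⟩ := ih
      exact ⟨tr k ≫ τ, by rw [← Category.assoc, hcomp, h₁], by rw [← Category.assoc, hπ, h₂]⟩
  have hiso : IsIso φ := by
    rw [DerivedCategory.isIso_iff]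
    intro j
    let n₀ := (-j).toNat
    have hπiso : ∀ n, n₀ ≤ n → IsIso ((homologyFunctor A j).map (π n)) := fun n hn =>
      isIso_homology_truncGEπ E (-(n : ℤ)) j (by omega)
    have := hπiso n₀ le_rfl
    have ha : IsIso ((homologyFunctor A j).map (a n₀)) := by
      refine isIso_map_points (G.homologyPres j) (a n₀) fun x => ?_
      obtain ⟨N, hN⟩ := hv x j
      obtain ⟨τ, hτ₁, hτ₂⟩ := hfac n₀ (n₀ + N) (Nat.le_add_right _ _)
      refine ⟨_, a (n₀ + N), τ, hτ₁, ?_, fun V hV => ?_⟩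
      · have := hπiso (n₀ + N) (Nat.le_add_right _ _)
        exact IsIso.of_isIso_fac_left (f := (homologyFunctor A j).map (π (n₀ + N)))
          (h := (homologyFunctor A j).map (π n₀)) (by rw [← Functor.map_comp, hτ₂])
      · obtain ⟨W, hxW, hle, hW⟩ := hN V hV
        exact ⟨W, homOfLE hle, hxW,
          rlim_truncTower_bijective E hL j N hW (n₀ + N) (Nat.le_add_left _ _)⟩
    have : IsIso ((homologyFunctor A j).map φ ≫ (homologyFunctor A j).map (a n₀)) := by
      rw [← Functor.map_comp, hφn]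
      infer_instance
    exact @IsIso.of_isIso_comp_right _ _ _ _ _ ((homologyFunctor A j).map φ) ((homologyFunctor A j).map (a n₀)) ha this
  let eφ : E ≅ L := asIso φ
  refine ⟨c ≫ eφ.inv⟦(1 : ℤ)⟧', isomorphic_distinguished _ hT _
    (Triangle.isoMk _ _ eφ (Iso.refl _) (Iso.refl _) ?_ ?_ ?_)⟩
  · change Pi.lift π ≫ 𝟙 _ = φ ≫ l
    rw [Category.comp_id]
    exact hφ
  · exact (Category.comp_id _).trans (Category.id_comp _).symm
  · change (c ≫ eφ.inv⟦(1 : ℤ)⟧') ≫ eφ.hom⟦(1 : ℤ)⟧' = 𝟙 _ ≫ c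
    rw [Category.assoc, ← Functor.map_comp, Iso.inv_hom_id, CategoryTheory.Functor.map_id, Category.comp_id,
      Category.id_comp]

end Groth.Agent.Rlim44
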